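import Groth.Agent.L14.HMProj.StableMain

/-!
# Proper stability gives positivity of the numerical function
-/

set_option autoImplicit false
set_option linter.style.haveILetI false
set_option backward.isDefEq.respectTransparency false
set_option backward.isDefEq.respectTransparency.types false

noncomputable section

universe u

open CategoryTheory CategoryTheory.Limits MonoidalCategory CartesianMonoidalCategory MonObj AlgebraicGeometry
open Filter

namespace Groth.L14.HMProj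

open Groth.L18.KEval Groth.L18.MuConj Groth.L18.TorusChars Groth.L18.MuPoints Groth.L18.AffLine
open Groth.L14.GITLin (nv coe_nv hasWeight_pow quo quo_spec nonvanishing_pow nonvanishing_inter_eq)

variable {k : Type u} [Field k] [IsAlgClosed k] [CharZero k]

attribute [local instance] constAlg gmGrp

variable {G X : Over (Bs k)} [GrpObj G] {a : AlgGrp.Action G X} {B : GLinSh.LinBun G a}

omit [CharZero k] in
/-- Functions on the multiplicative group are known by their values. -/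
theorem eq_zero_of_gpt (f : Γ((Red.Gm (Bs k)).left, ⊤)) (h : ∀ b : kˣ, evT (gpt b) f = 0) : f = 0 := by
  haveI : Infinite k := IsAlgClosed.instInfinite
  obtain ⟨w, hw, hf⟩ := exists_pw (f + 1) 1 fun b => by
    rw [map_add, map_one, h, _root_.zero_add, MonoidHom.one_apply]
  obtain rfl : w = 0 := pw_injective (k := k) (hw.symm.trans (MonoidHom.ext fun b => by simp [pw_apply]))
  rw [show mon (k := k) ℤ (Multiplicative.ofAdd 0) = 1 by rw [mon, ofAdd_zero, map_one]] at hf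
  simpa using hf

omit [CharZero k] in
/-- A one-parameter subgroup trivial on points is trivial. -/
theorem eq_one_of_gpt [IsAffine G.left] (l : Red.Gm (Bs k) ⟶ G) (h : ∀ b : kˣ, gpt b ≫ l = 1) : l = 1 := by
  refine Over.OverMorphism.ext (ext_of_isAffine (CommRingCat.hom_ext (RingHom.ext fun f => ?_)))
  refine sub_eq_zero.1 (eq_zero_of_gpt _ fun b => ?_)
  show evT (gpt b) (l.left.appTop f - (1 : Red.Gm (Bs k) ⟶ G).left.appTop f) = 0
  rw [map_sub, evT_comp, evT_comp, h, MonObj.comp_one, sub_self]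

omit [CharZero k] in
/-- A finite image of the units of an algebraically closed field is trivial. -/
theorem eq_one_of_finite {N : Type*} [Group N] (ψ : kˣ →* N) (h : (Set.range ψ).Finite) (b : kˣ) : ψ b = 1 := by
  haveI : Finite ψ.range := h.to_subtype
  have hn : 0 < Nat.card ψ.range := Nat.card_pos
  obtain ⟨z, hz⟩ := IsAlgClosed.exists_pow_nat_eq (b : k) hn
  have hz0 : z ≠ 0 := fun h0 => b.ne_zero (by rw [← hz, h0, zero_pow hn.ne'])
  have e : b = Units.mk0 z hz0 ^ Nat.card ψ.range := Units.ext (by rw [Units.val_pow_eq_pow_val, Units.val_mk0]; exact hz.symm)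
  have h1 : (⟨ψ (Units.mk0 z hz0), _, rfl⟩ : ψ.range) ^ Nat.card ψ.range = 1 := pow_card_eq_one'
  rw [e, map_pow]
  exact congrArg Subtype.val h1

variable [IsProper X.hom]

/-- **Proper stability gives positivity of the numerical function.** -/
theorem pos_of_isProperlyStablePt (hG : Red.IsReductive G) (hB : HMNum.AmpleCover B) (x : Pt X)
    (h : B.IsProperlyStablePt (x.left.base star)) (l : Red.Gm (Bs k) ⟶ G) [IsMonHom l] (hl : l ≠ 1) (m : ℤ)
    (hm : HMNum.IsMu B l x m) : 0 < m := by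
  classical
  haveI : Infinite k := IsAlgClosed.instInfinite
  haveI : IsAffineHom G.hom := hG.1
  haveI : Smooth G.hom := hG.2.1
  haveI : IsAffine G.left := isAffine_of_isAffineHom G.hom
  obtain ⟨⟨n₀, f₀, hn₀, ⟨hw₀, hi₀⟩, hx₀, U, hU, haff, hcl⟩, hfin⟩ := h
  refine lt_of_le_of_ne (nonneg_of_isSemistablePt hB x ⟨n₀, f₀, hn₀, ⟨hw₀, hi₀⟩, hx₀, U, hU, haff⟩ l m hm)
    fun hm0 => hl ?_
  obtain ⟨hX, hcov⟩ := hB
  choose n f hn hf hz V hV hVa using hcov
  obtain ⟨Z, hZ⟩ := hX.isCompact_univ.elim_finite_subcover (fun z => (V z : Set X.left)) (fun z => (V z).2)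
    fun z _ => Set.mem_iUnion.2 ⟨z, (hV z).ge (hz z)⟩
  have e₁ : Grp.mk (Red.Gm (Bs k)) ≅ Grp.mk (Red.DS (Bs k) ℤ) := Iso.refl _
  haveI : IsAffine (Red.Gm (Bs k)).left := isAffine_of_split e₁
  choose Φ hΦ hexp using fun j : ↥Z => exists_expansion B l hX (span_of_split e₁) (f j)
  obtain ⟨U₀, y₁, hxU, hy₁⟩ := exists_chart B x
  obtain ⟨v, hv, hv1⟩ := exists_fibre_pt B hy₁ x hxU
  choose c hc using fun j => hexp j v
  obtain ⟨hle, -⟩ := Groth.L18.MuTorus.isMu_le_and_attained B l (fun j : ↥Z => n j) (fun j => f j)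
    (fun j => hn j) (fun j => hf j)
    (fun z => by
      obtain ⟨j, hj, hzj⟩ := Set.mem_iUnion₂.1 (hZ (Set.mem_univ z))
      exact ⟨⟨j, hj⟩, (hV j).le hzj⟩)
    Φ hΦ x v hv hy₁ hxU (hv1 ▸ one_ne_zero) c hc (𝟙 _) m (isMu_congr (Category.id_comp l).symm hm)
  have hpair : ∀ (j : ↥Z) (χ), χ ∈ Φ j → c j χ ≠ 0 → 0 ≤ pair χ (𝟙 (Red.Gm (Bs k))) := fun j χ hχ hcχ => by
    have := hle j χ hχ hcχ
    rwa [← hm0, neg_zero, mul_zero] at this
  obtain ⟨y₀, ⟨φ, hφx, hφy⟩, hfix, -⟩ := hm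
  let φp : P1 k ⟶ X := lift jA (toUnit _) ≫ φ.1
  let hh : kˣ → Pt G := fun b => gpt b ≫ l
  have hcomp : ∀ r : k, pt r ≫ φp = lift (pt r ≫ jA) (𝟙 _) ≫ φ.1 := fun r => by
    simp only [φp, comp_lift_assoc, toUnit_unique (pt r ≫ toUnit (P1 k)) (𝟙 _)]
  have horb : ∀ b : kˣ, pt (b : k) ≫ φp = lift (hh b) x ≫ a.act := fun b => by
    have h1 := congrArg (lift (gpt b) (𝟙 _) ≫ ·) (Groth.L11.Magnet.orbit_eq φ)
    simp only [lift_whiskerRight_assoc, lift_whiskerLeft_assoc, Category.id_comp] at h1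
    rw [hφx] at h1
    rw [hcomp, pt_jA]
    exact h1.trans (Magnet.MonAct.lift_restrict_act _ _ _ _)
  have hzero : pt (0 : k) ≫ φp = y₀ := by
    rw [hcomp, pt_zero_jA, ← hφy, HMNum.limitPt_eq, toUnit_unique (toUnit (𝟙_ (Over (Bs k)))) (𝟙 _),
      Category.id_comp]
  -- the limit lies where the invariant section does not vanish
  have hy₀ : y₀.left.base star ∈ GLinSh.nonvanishing B.π f₀ := by
    obtain ⟨j, hj, hzj⟩ := Set.mem_iUnion₂.1 (hZ (Set.mem_univ (y₀.left.base star)))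
    let J : ↥Z := ⟨j, hj⟩
    let O := nv B.atlas (hf j)
    have hyO : Mem y₀ O := (hV j).le hzj
    have hwp : GLinSh.HasWeight B.atlas.chart (n j * n₀) (f₀ ^ n j) := by
      rw [_root_.mul_comm]; exact hasWeight_pow B.atlas hw₀ (n j)
    let q := quo B.atlas (hf j) hwp
    obtain ⟨c₀, hc₀, hc₀'⟩ := exists_weight_coeff B hw₀ hy₁
    have hne₀ : evT v f₀ ≠ 0 := by
      rw [hc₀ v x hv hxU, hv1, one_pow, _root_.mul_one]
      exact hc₀' x hxU hx₀
    let W := φp.left ⁻¹ᵁ O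
    have hW0 : Mem (pt (0 : k)) W := mem_comp.1 (by rw [hzero]; exact hyO)
    obtain ⟨hWev, hrat⟩ := regular_at W hW0 (φp.left.appLE O W le_rfl q)
    rw [ev_appLE φp le_rfl hW0, hzero] at hrat
    let t : (Pt (Red.Gm (Bs k)) →* k) → k := fun χ => if c J χ = 0 then 0 else c J χ
    let p : k → k := fun r => ∑ χ ∈ Φ J, t χ * r ^ (pair χ (𝟙 (Red.Gm (Bs k)))).toNat
    have hp : Groth.L18.Rat0.IsRat p (∑ χ ∈ Φ J, t χ * (0 : k) ^ (pair χ (𝟙 (Red.Gm (Bs k)))).toNat) :=
      Groth.L18.Rat0.IsRat.sum _ _ _ fun χ _ =>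
        (Groth.L18.Rat0.IsRat.const _).mul (Groth.L18.Rat0.IsRat.id.pow _)
    have hpf : ∀ b : kˣ, evT (lift (hh b) v ≫ B.lift.act) (f j) = p b := fun b => by
      refine (hc J (gpt b)).trans (Finset.sum_congr rfl fun χ hχ => ?_)
      have hs := pair_spec (hΦ J hχ) (𝟙 (Red.Gm (Bs k))) b
      rw [Category.comp_id] at hs
      by_cases h0 : c J χ = 0
      · simp [t, h0]
      · simp only [t, if_neg h0]
        rw [hs, ← zpow_natCast, Int.toNat_of_nonneg (hpair J χ hχ h0)]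
    have key := (hrat.mul (hp.pow n₀)).unique (Groth.L18.Rat0.IsRat.const (evT v f₀ ^ n j)) (by
      filter_upwards [hWev, Groth.L18.Rat0.eventually_ne_zero] with r hr hr0
      obtain ⟨b, rfl⟩ : ∃ b : kˣ, r = b := ⟨Units.mk0 r hr0, rfl⟩
      set va := lift (hh b) v ≫ B.lift.act with hva
      have hπ : va ≫ B.π = pt (b : k) ≫ φp := by rw [horb, hva, lift_act_π, hv]
      have hO : Mem va (B.π.left ⁻¹ᵁ O) := mem_comp.1 (by rw [hπ]; exact mem_comp.2 hr)
      have h1 := congrArg (ev va (B.π.left ⁻¹ᵁ O)) (quo_spec B.atlas (hf j) hwp)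
      rw [ev_mul hO, ev_pow hO, GLinSh.resTop, GLinSh.resTop, ev_res _ hO, ev_res _ hO, ev_app B.π O hO, hπ,
        ev_eq (mem_top va), ev_eq (mem_top va)] at h1
      change evT va (f₀ ^ n j) = _ * evT va (f j) ^ n₀ at h1
      rw [map_pow, evT_act_of_isInvFn hi₀, hpf] at h1
      rw [ev_appLE φp le_rfl hr]
      exact h1.symm)
    have hq : ev y₀ O q ≠ 0 := fun h0 => by
      rw [h0, zero_mul] at key
      exact pow_ne_zero _ hne₀ key.symm
    have hmem : y₀.left.base star ∈ X.left.basicOpen q := (ev_ne_zero_iff hyO q).1 hq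
    have := (nonvanishing_inter_eq B.atlas (hf j) le_rfl (quo_spec B.atlas (hf j) hwp)).ge hmem
    rw [nonvanishing_pow (hn j)] at this
    exact this.1
  -- the limit lies in the orbit
  let o : G ⟶ X := lift (𝟙 G) (toUnit G ≫ x) ≫ a.act
  have ho : ∀ g : Pt G, g ≫ o = lift g x ≫ a.act := fun g => by
    rw [comp_lift_assoc, Category.comp_id, ← Category.assoc, toUnit_unique (g ≫ toUnit G) (𝟙 _), Category.id_comp]
  have hy₀o : y₀.left.base star ∈ Set.range o.left.base := by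
    have hclo := hcl k (𝟙_ (Over (Bs k))) (Iso.refl _) x (by
      rintro _ ⟨z, rfl⟩
      rw [eq_star z]
      exact hU.ge hx₀)
    let σ : X ⟶ X ⊗ 𝟙_ (Over (Bs k)) := lift (𝟙 X) (toUnit X)
    have hσ : σ ≫ fst X _ = 𝟙 X := lift_fst _ _
    have hψ : ∀ z : X.left, σ.left.base z ∈ Set.range (GIT.psi a x).left.base ↔ z ∈ Set.range o.left.base := by
      intro z
      constructor
      · rintro ⟨q, hq⟩
        refine ⟨(fst G (𝟙_ (Over (Bs k)))).left.base q, ?_⟩
        have e : GIT.psi a x ≫ fst X _ = fst G (𝟙_ (Over (Bs k))) ≫ o := by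
          rw [GIT.psi, lift_fst, comp_lift_assoc, Category.comp_id, ← Category.assoc,
            toUnit_unique (fst G (𝟙_ (Over (Bs k))) ≫ toUnit G) (snd G _)]
          congr 1
        show (fst G (𝟙_ (Over (Bs k))) ≫ o).left.base q = z
        rw [← e, Over.comp_left, Scheme.Hom.comp_apply, hq]
        show (σ ≫ fst X _).left.base z = z
        rw [hσ]; rfl
      · rintro ⟨q, rfl⟩
        refine ⟨(lift (𝟙 G) (toUnit G)).left.base q, ?_⟩
        have e : lift (𝟙 G) (toUnit G) ≫ GIT.psi a x = o ≫ σ := by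
          rw [GIT.psi, comp_lift, lift_snd, lift_whiskerLeft_assoc, comp_lift, Category.comp_id]
          congr 1
          exact toUnit_unique _ _
        exact congrArg (fun w : G ⟶ X ⊗ 𝟙_ (Over (Bs k)) => w.left.base q) e
    let ρ : U.toScheme → ↥((fst X (𝟙_ (Over (Bs k)))).left ⁻¹ᵁ U) := fun z => ⟨σ.left.base (U.ι.base z), by
      show (σ ≫ fst X _).left.base (U.ι.base z) ∈ U
      rw [hσ]; exact z.2⟩
    have hρ : Continuous ρ := (σ.left.continuous.comp U.ι.continuous).subtype_mk _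
    have hS : IsClosed {z : U.toScheme | U.ι.base z ∈ Set.range o.left.base} := by
      convert hclo.preimage hρ using 1
      ext z
      exact (hψ _).symm
    obtain ⟨C, hC, hCe⟩ := isClosed_induced_iff.1 (hS : IsClosed {z : (U : Set X.left) | z.1 ∈ Set.range o.left.base})
    by_contra hnot
    have hyU : y₀.left.base star ∈ U := hU.ge hy₀
    let O' : X.left.Opens := ⟨(U : Set X.left) ∩ Cᶜ, U.2.inter hC.isOpen_compl⟩
    have hy₀C : y₀.left.base star ∉ C := fun hc => hnot ((Set.ext_iff.1 hCe ⟨_, hyU⟩).1 hc)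
    obtain ⟨hev, -⟩ := regular_at (φp.left ⁻¹ᵁ O') (mem_comp.1 (by rw [hzero]; exact ⟨hyU, hy₀C⟩)) 0
    obtain ⟨r, hr, hr0⟩ := (hev.and Groth.L18.Rat0.eventually_ne_zero).exists
    obtain ⟨b, rfl⟩ : ∃ b : kˣ, r = b := ⟨Units.mk0 r hr0, rfl⟩
    have hr' : Mem (pt (b : k) ≫ φp) O' := mem_comp.2 hr
    rw [horb, ← ho] at hr'
    exact hr'.2 ((Set.ext_iff.1 hCe ⟨_, hr'.1⟩).2 ⟨_, rfl⟩)
  obtain ⟨g, hg⟩ : ∃ g : Pt G, lift g x ≫ a.act = y₀ := by
    obtain ⟨h₀, hh₀⟩ := hy₀o
    haveI : JacobsonSpace G.left := LocallyOfFiniteType.jacobsonSpace G.hom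
    obtain ⟨z, hz, hzc⟩ := nonempty_inter_closedPoints (Z := o.left.base ⁻¹' {y₀.left.base star}) ⟨h₀, hh₀⟩
      ((isClosed_pt y₀).preimage o.left.continuous).isLocallyClosed
    obtain ⟨g, rfl⟩ := exists_pt_of_closed hzc
    exact ⟨g, (ho g).symm.trans (pt_ext hz)⟩
  have hstab : (stabPts a y₀).Finite := hg ▸ stabPts_act a g
    (finite_stabPts_of_isFinite a x (hfin k (𝟙_ (Over (Bs k))) (Iso.refl _) x (Set.Subset.antisymm
      (by rintro _ ⟨z, rfl⟩; rw [eq_star z]; rfl)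
      (by rintro z rfl; exact ⟨star, rfl⟩))))
  let ψ : kˣ →* Pt G :=
    { toFun := hh
      map_one' := by show gpt 1 ≫ l = 1; rw [map_one, MonObj.one_comp]
      map_mul' := fun b b' => by show gpt (b * b') ≫ l = _; rw [map_mul, MonObj.mul_comp] }
  refine eq_one_of_gpt l fun b => eq_one_of_finite ψ (hstab.subset ?_) b
  rintro _ ⟨b', rfl⟩
  have := hfix (𝟙_ (Over (Bs k))) (𝟙 _) (gpt b')
  rwa [Category.id_comp] at this

end Groth.L14.HMProj
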