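import Groth.Agent.L14.HMProj.StabPts
import Groth.Agent.L08.Rosen.RedSub
import Groth.Agent.L08.UnitChar
import Groth.Agent.L26.AV.SmoothField
import Groth.Agent.L18.GIT.TorusChars
import Groth.Agent.L14.GITLin.Weight

/-!
# An invertible sheaf has at most one linearisation for a group without characters
-/

set_option autoImplicit false
set_option linter.style.haveILetI false
set_option backward.isDefEq.respectTransparency false
set_option backward.isDefEq.respectTransparency.types false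

noncomputable section

universe u

open CategoryTheory CategoryTheory.Limits MonoidalCategory CartesianMonoidalCategory MonObj AlgebraicGeometry TopologicalSpace

namespace Groth.L14.HMProj

open Groth.L18.KEval Groth.L18.MuConj Groth.L18.MuPoints

variable {k : Type u} [Field k] [IsAlgClosed k]

/-- Morphisms from a reduced scheme of finite type are known by rational points. -/
theorem ext_of_pts {Y Z : Over (Bs k)} [LocallyOfFiniteType Y.hom] [IsReduced Y.left] {f g : Y ⟶ Z}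
    (h : ∀ p : Pt Y, p ≫ f = p ≫ g) : f = g := by
  refine Over.OverMorphism.ext ?_
  let O : Z.left.affineOpens → Y.left.Opens := fun W => f.left ⁻¹ᵁ W.1
  have hO : ⨆ W, O W = ⊤ := by
    rw [← Scheme.Hom.preimage_iSup, iSup_affineOpens_eq_top]; rfl
  refine Scheme.Cover.hom_ext (Y.left.openCoverOfIsOpenCover O (TopologicalSpace.IsOpenCover.mk hO)) _ _ fun W => ?_
  show (O W).ι ≫ f.left = (O W).ι ≫ g.left
  let OY : Over (Bs k) := Over.mk ((O W).ι ≫ Y.hom)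
  let jO : OY ⟶ Y := Over.homMk (O W).ι rfl
  let WZ : Over (Bs k) := Over.mk (W.1.ι ≫ Z.hom)
  let jW : WZ ⟶ Z := Over.homMk W.1.ι rfl
  haveI : IsAffine WZ.left := W.2
  haveI : LocallyOfFiniteType OY.hom := inferInstanceAs (LocallyOfFiniteType ((O W).ι ≫ Y.hom))
  haveI : IsReduced OY.left := inferInstanceAs (IsReduced (O W).toScheme)
  haveI : IsOpenImmersion jW.left := inferInstanceAs (IsOpenImmersion W.1.ι)
  haveI : Mono jW := Over.mono_of_mono_left jW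
  have hpre : g.left ⁻¹ᵁ W.1 = O W := opens_ext fun p => by
    show Mem (p ≫ g) W.1 ↔ Mem (p ≫ f) W.1
    rw [h p]
  have hr : ∀ φ : Y ⟶ Z, O W ≤ φ.left ⁻¹ᵁ W.1 → Set.range ((O W).ι ≫ φ.left).base ⊆ Set.range W.1.ι.base := by
    rintro φ hφ _ ⟨z, rfl⟩
    exact (Scheme.Opens.range_ι W.1).ge (hφ z.2)
  let mk : ∀ φ : Y ⟶ Z, O W ≤ φ.left ⁻¹ᵁ W.1 → (OY ⟶ WZ) := fun φ hφ =>
    Over.homMk (IsOpenImmersion.lift W.1.ι ((O W).ι ≫ φ.left) (hr φ hφ)) (by
      show _ ≫ W.1.ι ≫ Z.hom = (O W).ι ≫ Y.hom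
      rw [IsOpenImmersion.lift_fac_assoc, Category.assoc, Over.w φ])
  have hmk : ∀ φ hφ, mk φ hφ ≫ jW = jO ≫ φ := fun φ hφ =>
    Over.OverMorphism.ext (IsOpenImmersion.lift_fac _ _ _)
  have key : mk f le_rfl = mk g hpre.ge := by
    refine Over.OverMorphism.ext (ext_of_isAffine (CommRingCat.hom_ext (RingHom.ext fun t => ?_)))
    refine sub_eq_zero.1 (eq_zero_of_evT (Y := OY) _ fun p => ?_)
    show evT p ((mk f le_rfl).left.appTop t - (mk g hpre.ge).left.appTop t) = 0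
    rw [map_sub, evT_comp, evT_comp, show p ≫ mk f le_rfl = p ≫ mk g hpre.ge from
      (cancel_mono jW).1 (by rw [Category.assoc, Category.assoc, hmk f le_rfl, hmk g hpre.ge, ← Category.assoc, h, Category.assoc]),
      sub_self]
  exact congrArg CommaMorphism.left ((hmk f le_rfl).symm.trans ((congrArg (· ≫ jW) key).trans (hmk g hpre.ge)))

variable {G X : Over (Bs k)} [GrpObj G] {a : AlgGrp.Action G X}

omit [IsAlgClosed k] in
/-- A point of a fibre is known by its coordinate. -/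
theorem pt_eq_of_coord (B : GLinSh.LinBun G a) {U : X.left.Opens} {y : Γ(B.V.left, B.π.left ⁻¹ᵁ U)}
    (hy : y ∈ B.atlas.chart U) {p : Pt X} (hp : Mem p U) {v v' : Pt B.V} (hv : v ≫ B.π = p) (hv' : v' ≫ B.π = p)
    (e : ev v (B.π.left ⁻¹ᵁ U) y = ev v' (B.π.left ⁻¹ᵁ U) y) : v = v' := by
  obtain ⟨W, hW, hpW, hWU⟩ := exists_isAffineOpen_mem_and_subset hp
  replace hWU : W ≤ U := hWU
  have := B.atlas.affine
  have hWv : IsAffineOpen (B.π.left ⁻¹ᵁ W) := hW.preimage B.π.left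
  have hm : Mem v (B.π.left ⁻¹ᵁ W) := mem_comp.1 (by rw [hv]; exact hpW)
  have hm' : Mem v' (B.π.left ⁻¹ᵁ W) := mem_comp.1 (by rw [hv']; exact hpW)
  haveI : IsAffine (𝟙_ (Over (Bs k))).left := inferInstanceAs (IsAffine (Spec (CommRingCat.of k)))
  have happ : v.left.appLE (B.π.left ⁻¹ᵁ W) ⊤ hm.le = v'.left.appLE (B.π.left ⁻¹ᵁ W) ⊤ hm'.le := by
    refine CommRingCat.hom_ext (RingHom.ext fun r => gs_injective ?_)
    obtain ⟨q, rfl⟩ := (B.atlas.coord U y hy W hW hWU).2 r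
    show gs _ = gs _
    have h1 : ∀ (w : Pt B.V) (hw : Mem w (B.π.left ⁻¹ᵁ W)) r, gs (w.left.appLE _ ⊤ hw.le r) = ev w _ r :=
      fun w hw r => (ev_eq hw r).symm
    refine (h1 v hm _).trans (Eq.trans ?_ (h1 v' hm' _).symm)
    rw [ev_eq hm, ev_eq hm', ← RingHom.comp_apply, ← RingHom.comp_apply]
    refine congrArg (fun φ : Polynomial _ →+* k => φ q) (Polynomial.ringHom_ext (fun c => ?_) ?_)
    · simp only [RingHom.comp_apply, Polynomial.coe_eval₂RingHom, Polynomial.eval₂_C]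
      rw [← ev_eq hm, ← ev_eq hm', ev_app B.π W hm, ev_app B.π W hm', hv, hv']
    · simp only [RingHom.comp_apply, Polynomial.coe_eval₂RingHom, Polynomial.eval₂_X]
      rw [← ev_eq hm, ← ev_eq hm', GLinSh.res, ev_res _ hm, ev_res _ hm', e]
  have key : ∀ (w : Pt B.V) (hw : Mem w (B.π.left ⁻¹ᵁ W)),
      Spec.map (w.left.appLE (B.π.left ⁻¹ᵁ W) ⊤ hw.le) ≫ hWv.fromSpec = (isAffineOpen_top _).fromSpec ≫ w.left :=
    fun w hw => hWv.SpecMap_appLE_fromSpec w.left (isAffineOpen_top _) hw.le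
  haveI : IsIso (isAffineOpen_top (𝟙_ (Over (Bs k))).left).fromSpec := by
    rw [IsAffineOpen.fromSpec_top]; infer_instance
  refine Over.OverMorphism.ext ((cancel_epi (isAffineOpen_top (𝟙_ (Over (Bs k))).left).fromSpec).1 ?_)
  rw [← key v hm, ← key v' hm', happ]

/-- A unit with value one at the origin gives a character. -/
theorem eq_one_of_isUnit [Smooth G.hom] [ConnectedSpace G.left] [QuasiCompact G.hom]
    (hχ : ∀ (χ : G ⟶ Red.Gm (Bs k)) [IsMonHom χ], χ = 1) (u : Γ(G.left, ⊤)) (hu : IsUnit u)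
    (h1 : η[G].left.appTop u = 1) : u = 1 := by
  have hμ := Groth.L08.UnitChar.char_of_unit G u hu h1
  change μ[G].left.appTop u = (fst G G).left.appTop u * (snd G G).left.appTop u at hμ
  let χ : G ⟶ Red.Gm (Bs k) := GmPts.ptOfUnit hu.unit
  have hχu : GmPts.unitOfPt χ = hu.unit := GmPts.unitOfPt_ptOfUnit _
  have hinj : ∀ {W : Over (Bs k)} (p q : W ⟶ Red.Gm (Bs k)),
      (GmPts.unitOfPt p : Γ(W.left, ⊤)) = GmPts.unitOfPt q → p = q := fun p q e => by
    rw [← GmPts.ptOfUnit_unitOfPt p, ← GmPts.ptOfUnit_unitOfPt q, Units.ext e]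
  haveI : IsMonHom χ := by
    refine ⟨hinj _ _ ?_, hinj _ _ ?_⟩
    · rw [show η[Red.Gm (Bs k)] = (1 : 𝟙_ (Over (Bs k)) ⟶ Red.Gm (Bs k)) by
        rw [Hom.one_def, toUnit_unique (toUnit (𝟙_ (Over (Bs k)))) (𝟙 _), Category.id_comp],
        GmPts.unitOfPt_one, GmPts.unitOfPt_comp, hχu]
      exact h1
    · rw [show μ[Red.Gm (Bs k)] = fst _ _ * snd _ _ by rw [Hom.mul_def, lift_fst_snd, Category.id_comp],
        MonObj.comp_mul, tensorHom_fst, tensorHom_snd, GmPts.unitOfPt_comp, GmPts.unitOfPt_mul,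
        GmPts.unitOfPt_comp, GmPts.unitOfPt_comp, hχu]
      exact hμ
  have e := congrArg GmPts.unitOfPt (hχ χ)
  rw [hχu, GmPts.unitOfPt_one] at e
  exact congrArg Units.val e

/-- **A group without characters has at most one linearisation.** -/
theorem lift_eq [Smooth G.hom] [LocallyOfFiniteType G.hom] [QuasiCompact G.hom] [ConnectedSpace G.left]
    (hχ : ∀ (χ : G ⟶ Red.Gm (Bs k)) [IsMonHom χ], χ = 1) [LocallyOfFiniteType X.hom]
    (B₁ : GLinSh.LinBun G a) (Φ : AlgGrp.Action G B₁.V) (hπ : Φ.act ≫ B₁.π = (G ◁ B₁.π) ≫ a.act)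
    (hl : GLinSh.IsLinearLift a B₁.π Φ B₁.atlas.chart hπ) (g : Pt G) (w : Pt B₁.V) :
    lift g w ≫ B₁.lift.act = lift g w ≫ Φ.act := by
  let B₂ : GLinSh.LinBun G a := ⟨B₁.V, B₁.π, B₁.atlas, Φ, hπ, hl⟩
  haveI : IsReduced G.left := Groth.Agent.AV.isReduced_of_smooth_field G.hom
  set p := w ≫ B₁.π with hwp
  obtain ⟨U, y, hpU, hy⟩ := exists_chart B₁ p
  obtain ⟨v, hv, hv1⟩ := exists_fibre_pt B₁ hy p hpU
  let inner : G ⟶ B₁.V := lift (𝟙 G) (toUnit G ≫ v) ≫ Φ.act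
  let ψ : G ⟶ B₁.V := lift (𝟙 G)⁻¹ inner ≫ B₁.lift.act
  let θ : Pt G → Pt B₁.V → Pt B₁.V := fun h z => lift h⁻¹ (lift h z ≫ Φ.act) ≫ B₁.lift.act
  have hθπ : ∀ h z, θ h z ≫ B₁.π = z ≫ B₁.π := fun h z => by
    show (lift h⁻¹ _ ≫ B₁.lift.act) ≫ B₁.π = _
    rw [lift_act_π, show (lift h z ≫ Φ.act) ≫ B₁.π = lift h (z ≫ B₁.π) ≫ a.act from lift_act_π B₂ h z,
      ← act_mul, inv_mul_cancel, act_one]
  have hψ : ∀ h : Pt G, h ≫ ψ = θ h v := fun h => by
    simp only [ψ, inner, θ, comp_lift_assoc, GrpObj.comp_inv, Category.comp_id]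
    rw [← Category.assoc, toUnit_unique (h ≫ toUnit G) (𝟙 _), Category.id_comp]
  have hle : ⊤ ≤ ψ.left ⁻¹ᵁ (B₁.π.left ⁻¹ᵁ U) := by
    have e : ψ.left ⁻¹ᵁ (B₁.π.left ⁻¹ᵁ U) = ⊤ := opens_ext fun h => by
      show Mem ((h ≫ ψ) ≫ B₁.π) U ↔ Mem h ⊤
      rw [hψ, hθπ, hv]
      exact iff_of_true hpU trivial
    exact e.ge
  let u : Γ(G.left, ⊤) := ψ.left.appLE (B₁.π.left ⁻¹ᵁ U) ⊤ hle y
  have hu : ∀ h, evT h u = ev (θ h v) (B₁.π.left ⁻¹ᵁ U) y := fun h => by
    rw [← ev_eq (mem_top h), ev_appLE ψ hle (mem_top h), hψ]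
  have hne : ∀ h, ev (θ h v) (B₁.π.left ⁻¹ᵁ U) y ≠ 0 := fun h => by
    have hmid : Mem (lift h p ≫ a.act) (⊤ : X.left.Opens) := trivial
    obtain ⟨U', y', hqU', hy'⟩ := exists_chart B₁ (lift h p ≫ a.act)
    have h1 := ev_act_ne_zero B₂ hy hy' h p v hv hpU hqU' (hv1.trans_ne one_ne_zero)
    refine ev_act_ne_zero B₁ hy' hy h⁻¹ (lift h p ≫ a.act) (lift h v ≫ Φ.act) ?_ hqU' ?_ h1
    · rw [show (lift h v ≫ Φ.act) ≫ B₁.π = lift h (v ≫ B₁.π) ≫ a.act from lift_act_π B₂ h v, hv]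
    · rw [← act_mul, inv_mul_cancel, act_one]; exact hpU
  have hunit : IsUnit u := by
    have e : G.left.basicOpen u = ⊤ := opens_ext fun h => by
      refine iff_of_true ((ev_ne_zero_iff (mem_top h) u).1 ?_) trivial
      rw [ev_eq (mem_top h)]
      exact (hu h).trans_ne (hne h)
    exact (RingedSpace.isUnit_of_isUnit_germ G.left.toRingedSpace ⊤ u fun x hx =>
      (Scheme.mem_basicOpen _ _ x hx).1 (e.ge trivial))
  have heta : (η[G] : Pt G) = 1 := by
    rw [Hom.one_def, toUnit_unique (toUnit (𝟙_ (Over (Bs k)))) (𝟙 _), Category.id_comp]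
  have h1 : η[G].left.appTop u = 1 := by
    rw [heta, appTop_pt, hu]
    simp only [θ, inv_one, act_one, hv1, map_one]
  have hu1 : ∀ h, ev (θ h v) (B₁.π.left ⁻¹ᵁ U) y = 1 := fun h => by
    rw [← hu, eq_one_of_isUnit hχ u hunit h1, map_one]
  have hfix : θ g w = w := by
    refine pt_eq_of_coord B₁ hy hpU ((hθπ g w).trans hwp.symm) hwp.symm ?_
    obtain ⟨U', y', hqU', hy'⟩ := exists_chart B₁ (lift g p ≫ a.act)
    obtain ⟨c₂, -, hc₂⟩ := exists_cocycle_pt B₂ hy hy'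
    obtain ⟨c₁, -, hc₁⟩ := exists_cocycle_pt B₁ hy' hy
    have hback : Mem (lift g⁻¹ (lift g p ≫ a.act) ≫ a.act) U := by
      rw [← act_mul, inv_mul_cancel, act_one]; exact hpU
    have key : ∀ z : Pt B₁.V, z ≫ B₁.π = p → ∃ hO₁ hO₂, ev (θ g z) (B₁.π.left ⁻¹ᵁ U) y =
        evHom (lift g⁻¹ (lift g p ≫ a.act)) hO₁ c₁ * (evHom (lift g p) hO₂ c₂ * ev z (B₁.π.left ⁻¹ᵁ U) y) := by
      intro z hz
      obtain ⟨hO₂, e₂⟩ := hc₂ g p z hz hpU hqU'
      obtain ⟨hO₁, e₁⟩ := hc₁ g⁻¹ (lift g p ≫ a.act) (lift g z ≫ Φ.act)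
        (by rw [show (lift g z ≫ Φ.act) ≫ B₁.π = lift g (z ≫ B₁.π) ≫ a.act from lift_act_π B₂ g z, hz]) hqU' hback
      refine ⟨hO₁, hO₂, ?_⟩
      rw [← ev_eq hO₁, ← ev_eq hO₂]
      exact e₁.trans (congrArg _ e₂)
    obtain ⟨_, _, ev₁⟩ := key v hv
    obtain ⟨_, _, ev₂⟩ := key w hwp.symm
    rw [hu1, hv1, _root_.mul_one] at ev₁
    rw [ev₂, ← _root_.mul_assoc, ← ev₁, _root_.one_mul]
  conv_lhs => rw [← hfix]
  show lift g (lift g⁻¹ (lift g w ≫ Φ.act) ≫ B₁.lift.act) ≫ B₁.lift.act = _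
  rw [← act_mul, mul_inv_cancel, act_one]

omit [IsAlgClosed k] in
/-- The total space over a reduced scheme is reduced. -/
theorem isReduced_V (B : GLinSh.LinBun G a) [IsReduced X.left] : IsReduced B.V.left := by
  haveI := B.atlas.affine
  refine @isReduced_of_isReduced_stalk _ fun z => ?_
  obtain ⟨U, hzU, y, hy⟩ := B.atlas.cover (B.π.left.base z)
  obtain ⟨W, hW, hzW, hWU⟩ := exists_isAffineOpen_mem_and_subset hzU
  replace hWU : W ≤ U := hWU
  have hWv : IsAffineOpen (B.π.left ⁻¹ᵁ W) := hW.preimage B.π.left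
  let E := RingEquiv.ofBijective _ (B.atlas.coord U y hy W hW hWU)
  haveI : _root_.IsReduced (Polynomial Γ(X.left, W)) :=
    ⟨fun q hq => Polynomial.ext fun i => by rw [Polynomial.coeff_zero]; exact ((Polynomial.isNilpotent_iff.1 hq) i).eq_zero⟩
  haveI : _root_.IsReduced Γ(B.V.left, B.π.left ⁻¹ᵁ W) :=
    isReduced_of_injective E.symm.toRingHom E.symm.injective
  haveI : IsReduced (B.π.left ⁻¹ᵁ W).toScheme := by
    haveI : IsAffine (B.π.left ⁻¹ᵁ W).toScheme := hWv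
    haveI : _root_.IsReduced Γ((B.π.left ⁻¹ᵁ W).toScheme, ⊤) :=
      isReduced_of_injective (B.π.left ⁻¹ᵁ W).topIso.hom.hom
        (ConcreteCategory.bijective_of_isIso (B.π.left ⁻¹ᵁ W).topIso.hom).1
    exact isReduced_of_isAffine_isReduced _
  exact isReduced_of_injective ((B.π.left ⁻¹ᵁ W).ι.stalkMap ⟨z, hzW⟩).hom
    (ConcreteCategory.bijective_of_isIso ((B.π.left ⁻¹ᵁ W).ι.stalkMap ⟨z, hzW⟩)).1

omit [IsAlgClosed k] in
theorem locallyOfFiniteType_V (B : GLinSh.LinBun G a) [LocallyOfFiniteType X.hom] :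
    LocallyOfFiniteType B.V.hom := by
  rw [← Over.w B.π]
  haveI : LocallyOfFiniteType B.π.left := by
    refine (IsZariskiLocalAtTarget.iff_of_iSup_eq_top (P := @LocallyOfFiniteType)
      (fun W : {W : X.left.affineOpens // ∃ U y, y ∈ B.atlas.chart U ∧ W.1 ≤ U} => W.1.1) ?_).2 fun W => ?_
    · refine top_unique fun x _ => ?_
      obtain ⟨U, hxU, y, hy⟩ := B.atlas.cover x
      obtain ⟨W, hW, hxW, hWU⟩ := exists_isAffineOpen_mem_and_subset hxU
      exact Opens.mem_iSup.2 ⟨⟨⟨W, hW⟩, U, y, hy, hWU⟩, hxW⟩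
    · obtain ⟨⟨W, hW⟩, U, y, hy, hWU⟩ := W
      haveI := B.atlas.affine
      haveI : IsAffine W.toScheme := hW
      haveI : IsAffine (B.π.left ⁻¹ᵁ W).toScheme := hW.preimage B.π.left
      rw [← Scheme.Hom.resLE_eq_morphismRestrict, HasRingHomProperty.iff_of_isAffine (P := @LocallyOfFiniteType),
        RingHom.finiteType_respectsIso.arrow_mk_iso_iff (arrowResLEAppIso B.π.left W (B.π.left ⁻¹ᵁ W) le_rfl),
        ← Scheme.Hom.app_eq_appLE]
      have e : (B.π.left.app W).hom =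
          (Polynomial.eval₂RingHom (B.π.left.app W).hom (GLinSh.res B.π hWU y)).comp Polynomial.C :=
        RingHom.ext fun c => (Polynomial.eval₂_C _ _).symm
      rw [e]
      exact (RingHom.FiniteType.of_surjective _ (B.atlas.coord U y hy W hW hWU).2).comp
        ((RingHom.finiteType_algebraMap (A := Γ(X.left, W)) (B := Polynomial Γ(X.left, W))).2 inferInstance)
  infer_instance

end Groth.L14.HMProj
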