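import Groth.Agent.L14.GITProper.Orbit
import Groth.Agent.L14.GITAff.ClosedAction
import Groth.Agent.L14.NRQuot.Closed
import Groth.Agent.L22.AffineDim
import Mathlib.RingTheory.Spectrum.Prime.Chevalley
import Mathlib.RingTheory.Spectrum.Prime.ConstructibleSet
import Mathlib.RingTheory.Spectrum.Prime.Jacobson

/-!
# Quasi-finite orbit maps on affine schemes have closed images
-/

set_option autoImplicit false
set_option linter.style.haveILetI false
set_option backward.isDefEq.respectTransparency false
set_option backward.isDefEq.respectTransparency.types false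

noncomputable section

universe u

open CategoryTheory MonoidalCategory CartesianMonoidalCategory MonObj AlgebraicGeometry PrimeSpectrum

namespace Groth.L14.HMProj

section Ring

variable {Ω : Type u} [Field Ω] {B C : Type u} [CommRing B] [CommRing C] [Algebra Ω B] [Algebra Ω C]
  [Algebra.FiniteType Ω B] [Algebra.FiniteType Ω C]

/-- An image of a quasi-finite map cannot lie in the boundary of an image of the same source. -/
theorem false_of_range_subset_closure [Nontrivial C] (φx φy : B →ₐ[Ω] C)
    (hqf : φx.toRingHom.QuasiFinite)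
    (hsub : Set.range (comap φx.toRingHom) ⊆ closure (Set.range (comap φy.toRingHom)))
    (hdisj : Disjoint (Set.range (comap φx.toRingHom)) (Set.range (comap φy.toRingHom))) : False := by
  classical
  haveI : IsNoetherianRing C := Algebra.FiniteType.isNoetherianRing Ω C
  have hdim : ∀ P : (minimalPrimes C), ∃ d : ℕ, ringKrullDim (C ⧸ P.1) = d := fun P => by
    haveI : P.1.IsPrime := P.2.1.1
    obtain ⟨d, -, -, -, hd, -⟩ := Groth.L22.AffineDim.exists_normalization Ω (C ⧸ P.1)
    exact ⟨d, hd⟩
  choose d hd using hdim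
  haveI : Finite (minimalPrimes C) := (minimalPrimes.finite_of_isNoetherianRing C).to_subtype
  haveI : Nonempty (minimalPrimes C) := Ideal.nonempty_minimalPrimes bot_ne_top
  obtain ⟨P₀, hmax⟩ := Finite.exists_max d
  haveI : P₀.1.IsPrime := P₀.2.1.1
  letI := φx.toRingHom.toAlgebra
  haveI : Algebra.QuasiFinite B C := hqf
  let f : PrimeSpectrum (C ⧸ P₀.1) → PrimeSpectrum B := fun p =>
    comap φx.toRingHom (comap (Ideal.Quotient.mk P₀.1) p)
  have hf : StrictMono f := by
    intro p p' hpp'
    refine lt_of_le_of_ne (Ideal.comap_mono (Ideal.comap_mono hpp'.le)) fun e => hpp'.ne ?_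
    have h := Algebra.QuasiFinite.eq_of_le_of_under_eq (R := B)
      (comap (Ideal.Quotient.mk P₀.1) p).asIdeal (comap (Ideal.Quotient.mk P₀.1) p').asIdeal
      (Ideal.comap_mono hpp'.le) (congrArg PrimeSpectrum.asIdeal e)
    exact PrimeSpectrum.comap_injective_of_surjective _ Ideal.Quotient.mk_surjective (PrimeSpectrum.ext h)
  obtain ⟨l, hl⟩ := (Order.le_krullDim_iff (α := PrimeSpectrum (C ⧸ P₀.1))).1 (hd P₀).ge
  let l' : LTSeries (PrimeSpectrum B) := l.map f hf
  have hl' : l'.length = d P₀ := hl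
  have hmem : l'.head ∈ Set.range (comap φx.toRingHom) := by
    rw [LTSeries.head_map]; exact ⟨_, rfl⟩
  have hV : RingHom.ker φy.toRingHom ≤ l'.head.asIdeal := by
    have := hsub hmem
    rw [closure_range_comap] at this
    exact this
  obtain ⟨q₀, hq₀, hq₀le⟩ := Ideal.exists_minimalPrimes_le hV
  haveI := hq₀.1.1
  obtain ⟨Q, hQ, -, hQe⟩ := Ideal.exists_comap_eq_of_mem_minimalPrimes φy.toRingHom (I := ⊥) q₀
    (by rwa [← RingHom.ker_eq_comap_bot])
  let q : PrimeSpectrum B := ⟨q₀, hq₀.1.1⟩
  have hlt : q < l'.head := by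
    refine lt_of_le_of_ne hq₀le fun e => ?_
    exact Set.disjoint_left.1 hdisj hmem ⟨⟨Q, hQ⟩, PrimeSpectrum.ext (hQe.trans (congrArg PrimeSpectrum.asIdeal e))⟩
  let L : LTSeries (PrimeSpectrum B) := l'.cons q hlt
  have hL : ∀ i, q₀ ≤ (L.toFun i).asIdeal := fun i =>
    show q₀ ≤ (L i).asIdeal from (show q ≤ L i from (RelSeries.head_cons l' q hlt) ▸ L.head_le i)
  let g : (i : Fin (L.length + 1)) → PrimeSpectrum (B ⧸ q₀) := fun i =>
    ⟨(L i).asIdeal.map (Ideal.Quotient.mk q₀),
      Ideal.map_isPrime_of_surjective Ideal.Quotient.mk_surjective (by rw [Ideal.mk_ker]; exact hL i)⟩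
  have hg : ∀ i, comap (Ideal.Quotient.mk q₀) (g i) = L i := fun i => PrimeSpectrum.ext (by
    show Ideal.comap _ (Ideal.map _ _) = _
    rw [Ideal.comap_map_of_surjective' _ Ideal.Quotient.mk_surjective, Ideal.mk_ker]
    exact sup_eq_left.2 (hL i))
  have hgmono : StrictMono g := fun i j hij => by
    have h1 : L i < L j := L.strictMono hij
    refine lt_of_le_of_ne (Ideal.map_mono h1.le) fun e => h1.ne ?_
    rw [← hg i, ← hg j, e]
  have h1 : ((L.length : ℕ) : WithBot ℕ∞) ≤ ringKrullDim (B ⧸ q₀) :=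
    Order.LTSeries.length_le_krullDim (LTSeries.mk L.length g hgmono)
  obtain ⟨Q', hQ', hQ'le⟩ := Ideal.exists_minimalPrimes_le (I := (⊥ : Ideal C)) (J := Q) bot_le
  haveI := hQ'.1.1
  have hQ'e : Q'.comap φy = q₀ := le_antisymm (hQe ▸ Ideal.comap_mono hQ'le)
    (hq₀.2 ⟨Ideal.IsPrime.comap _, fun r hr => by
      show φy r ∈ Q'
      rw [show φy r = 0 from hr]; exact zero_mem _⟩ (hQe ▸ Ideal.comap_mono hQ'le))
  let φ : (B ⧸ q₀) →ₐ[Ω] (C ⧸ Q') := Ideal.quotientMapₐ Q' φy hQ'e.ge
  have hφ : Function.Injective φ := Ideal.quotientMap_injective' (H := hQ'e.ge) hQ'e.le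
  obtain ⟨a, -, -, -, ha, hat⟩ := Groth.L22.AffineDim.exists_normalization Ω (B ⧸ q₀)
  obtain ⟨b, -, -, -, hb, hbt⟩ := Groth.L22.AffineDim.exists_normalization Ω (C ⧸ Q')
  have hab : a ≤ b := by
    have := trdeg_le_of_injective φ hφ
    rw [hat, hbt] at this
    exact_mod_cast this
  have hbd : b ≤ d P₀ := by
    have e := (hd ⟨Q', hQ'⟩).symm.trans hb
    have : d ⟨Q', hQ'⟩ = b := by exact_mod_cast e
    exact this ▸ hmax _
  rw [ha] at h1
  have h2 : L.length ≤ a := by exact_mod_cast h1
  have h3 : L.length = d P₀ + 1 := by simp [L, hl']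
  omega

/-- The boundary of an image has a closed point. -/
theorem exists_maximal_boundary (φ : B →ₐ[Ω] C)
    (hne : ¬ IsClosed (Set.range (comap φ.toRingHom))) :
    ∃ P : PrimeSpectrum B, IsClosed ({P} : Set (PrimeSpectrum B)) ∧
      P ∈ closure (Set.range (comap φ.toRingHom)) \ Set.range (comap φ.toRingHom) := by
  haveI : IsJacobsonRing B := isJacobsonRing_of_finiteType (A := Ω) (B := B)
  haveI : IsNoetherianRing B := Algebra.FiniteType.isNoetherianRing Ω B
  have hR : Topology.IsConstructible (Set.range (comap φ.toRingHom)) :=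
    isConstructible_range_comap
      (RingHom.FinitePresentation.of_finiteType.1 (RingHom.FiniteType.of_comp_finiteType
        (f := algebraMap Ω B) (g := φ.toRingHom) (by
          rw [show φ.toRingHom.comp (algebraMap Ω B) = algebraMap Ω C from φ.comp_algebraMap]
          exact RingHom.finiteType_algebraMap.2 ‹_›)))
  have hV : Topology.IsConstructible (closure (Set.range (comap φ.toRingHom))) := by
    rw [closure_range_comap]
    have e : zeroLocus (RingHom.ker φ.toRingHom : Set B) =
        Set.range (comap (Ideal.Quotient.mk (RingHom.ker φ.toRingHom))) := by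
      rw [range_comap_of_surjective _ _ Ideal.Quotient.mk_surjective, Ideal.mk_ker]
    rw [e]
    exact isConstructible_range_comap
      (RingHom.FinitePresentation.of_surjective _ Ideal.Quotient.mk_surjective (by
        rw [Ideal.mk_ker]; exact IsNoetherian.noetherian _))
  obtain ⟨S, hS⟩ := exists_constructibleSetData_iff.2 (hV.sdiff hR)
  have hnonempty : (closure (Set.range (comap φ.toRingHom)) \ Set.range (comap φ.toRingHom)).Nonempty := by
    by_contra h
    rw [Set.not_nonempty_iff_eq_empty, Set.sdiff_eq_empty] at h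
    exact hne (isClosed_of_closure_subset h)
  rw [← hS] at hnonempty ⊢
  obtain ⟨P₁, hP₁⟩ := hnonempty
  simp only [ConstructibleSetData.toSet, Set.mem_iUnion] at hP₁
  obtain ⟨D, hD, hP₁D⟩ := hP₁
  have hlc : IsLocallyClosed D.toSet :=
    ⟨(zeroLocus {D.f})ᶜ, zeroLocus (Set.range D.g), (isClosed_zeroLocus _).isOpen_compl,
      isClosed_zeroLocus _, by rw [BasicConstructibleSetData.toSet, Set.sdiff_eq, Set.inter_comm]⟩
  obtain ⟨P, hPC, hPc⟩ := nonempty_inter_closedPoints ⟨P₁, hP₁D⟩ hlc
  refine ⟨P, mem_closedPoints_iff.1 hPc, ?_⟩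
  simp only [ConstructibleSetData.toSet, Set.mem_iUnion]
  exact ⟨D, hD, hPC⟩

end Ring

variable {k : Type u} [Field k] {G X : Over (Spec (CommRingCat.of k))} [GrpObj G]

/-- The orbit map at the section through a point is translation of that point. -/
theorem whiskerLeft_fstAct {T : Over (Spec (CommRingCat.of k))} (a : AlgGrp.Action G X) (y : T ⟶ X) :
    (G ◁ lift y (𝟙 T)) ≫ (GITProper.fstAct a T).act = GIT.psi a y := by
  refine CartesianMonoidalCategory.hom_ext _ _ ?_ ?_
  · rw [Category.assoc, GITProper.fstAct_fst, ← MonoidalCategory.whiskerLeft_comp_assoc, lift_fst, GIT.psi, lift_fst]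
  · rw [Category.assoc, GITProper.fstAct_snd, whiskerLeft_snd_assoc, lift_snd, Category.comp_id, GIT.psi, lift_snd]

/-- The closure of an invariant set is invariant. -/
theorem act_closure_subset [Smooth G.hom] (a : AlgGrp.Action G X) (R : Set X.left)
    (hR : ∀ w : (G ⊗ X).left, (snd G X).left.base w ∈ R → a.act.left.base w ∈ R) (w : (G ⊗ X).left)
    (hw : (snd G X).left.base w ∈ closure R) : a.act.left.base w ∈ closure R := by
  haveI : Smooth (snd G X).left := MorphismProperty.pullback_snd G.hom X.hom ‹Smooth G.hom›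
  have hopen : IsOpenMap (snd G X).left.base := (snd G X).left.isOpenMap
  exact map_mem_closure a.act.left.continuous (hopen.preimage_closure_subset_closure_preimage hw) hR

/-- **Quasi-finite orbit maps on an affine scheme have closed images.** -/
theorem isClosedAction_of_lqf [Smooth G.hom] [IsAffine G.left] [IsAffine X.left] [LocallyOfFiniteType X.hom]
    (a : AlgGrp.Action G X) [LocallyQuasiFinite (GIT.psi a (𝟙 X)).left] : GIT.IsClosedAction a := by
  intro Ω _ _ T eT x
  haveI : IsAffine T.left := IsAffine.of_isIso eT.hom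
  haveI : Subsingleton T.left :=
    eT.hom.homeomorph.injective.subsingleton (β := PrimeSpectrum Ω)
  haveI : IsAffine (G ⊗ T).left := GITProper.isAffine_tensor G T
  haveI : IsAffine (X ⊗ T).left := GITProper.isAffine_tensor X T
  haveI : LocallyOfFiniteType (snd G T).left :=
    MorphismProperty.of_isPullback (P := @LocallyOfFiniteType) (IsPullback.of_hasPullback G.hom T.hom) inferInstance
  haveI : LocallyOfFiniteType (snd X T).left :=
    MorphismProperty.of_isPullback (P := @LocallyOfFiniteType) (IsPullback.of_hasPullback X.hom T.hom) inferInstance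
  by_contra hncl
  let r : Ω →+* Γ(T.left, ⊤) := ((Scheme.ΓSpecIso (CommRingCat.of Ω)).inv ≫ eT.hom.appTop).hom
  have hr : r.FiniteType := RingHom.FiniteType.of_surjective _
    (ConcreteCategory.bijective_of_isIso ((Scheme.ΓSpecIso (CommRingCat.of Ω)).inv ≫ eT.hom.appTop)).2
  letI : Algebra Ω Γ((X ⊗ T).left, ⊤) := ((snd X T).left.appTop.hom.comp r).toAlgebra
  letI : Algebra Ω Γ((G ⊗ T).left, ⊤) := ((snd G T).left.appTop.hom.comp r).toAlgebra
  have hft : ∀ {P : Over (Spec (CommRingCat.of k))} [IsAffine P.left] (q : P ⟶ T) [LocallyOfFiniteType q.left],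
      q.left.appTop.hom.FiniteType := fun {P} _ q _ =>
    (HasRingHomProperty.iff_of_isAffine (P := @LocallyOfFiniteType)).1 inferInstance
  haveI : Algebra.FiniteType Ω Γ((X ⊗ T).left, ⊤) := (hft (snd X T)).comp hr
  haveI : Algebra.FiniteType Ω Γ((G ⊗ T).left, ⊤) := (hft (snd G T)).comp hr
  have hcomm : ∀ y : T ⟶ X, (GIT.psi a y).left.appTop.hom.comp (algebraMap Ω Γ((X ⊗ T).left, ⊤)) =
      algebraMap Ω Γ((G ⊗ T).left, ⊤) := fun y => by
    have e : (GIT.psi a y).left ≫ (snd X T).left = (snd G T).left := by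
      rw [← Over.comp_left, GIT.psi, lift_snd]
    show (GIT.psi a y).left.appTop.hom.comp ((snd X T).left.appTop.hom.comp r) =
      (snd G T).left.appTop.hom.comp r
    rw [← RingHom.comp_assoc, ← CommRingCat.hom_comp, ← Scheme.Hom.comp_appTop, e]
  let φ : (T ⟶ X) → (Γ((X ⊗ T).left, ⊤) →ₐ[Ω] Γ((G ⊗ T).left, ⊤)) := fun y =>
    { (GIT.psi a y).left.appTop.hom with commutes' := fun c => RingHom.congr_fun (hcomm y) c }
  let eC := (G ⊗ T).left.isoSpec.hom.homeomorph
  let eB := (X ⊗ T).left.isoSpec.hom.homeomorph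
  have hrange : ∀ y : T ⟶ X, eB '' Set.range (GIT.psi a y).left.base = Set.range (comap (φ y).toRingHom) := by
    intro y
    ext P
    constructor
    · rintro ⟨_, ⟨q, rfl⟩, rfl⟩
      exact ⟨eC q, (GITProper.isoSpec_apply (GIT.psi a y).left q).symm⟩
    · rintro ⟨Q, rfl⟩
      refine ⟨_, ⟨eC.symm Q, rfl⟩, (GITProper.isoSpec_apply (GIT.psi a y).left _).trans ?_⟩
      exact congrArg _ (eC.apply_symm_apply Q)
  have hnclB : ¬ IsClosed (Set.range (comap (φ x).toRingHom)) := by
    rw [← hrange, eB.isClosed_image]; exact hncl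
  obtain ⟨P, hPc, hPcl, hPR⟩ := exists_maximal_boundary (φ x) hnclB
  let z := eB.symm P
  have hzc : IsClosed ({z} : Set (X ⊗ T).left) := by
    rw [← Set.image_singleton, eB.symm.isClosed_image]; exact hPc
  have hzcl : z ∈ closure (Set.range (GIT.psi a x).left.base) := by
    rw [← hrange, ← eB.image_closure] at hPcl
    obtain ⟨z', hz', he⟩ := hPcl
    rwa [show z = z' from eB.symm_apply_eq.2 he.symm]
  have hzR : z ∉ Set.range (GIT.psi a x).left.base := fun h =>
    hPR (by rw [← hrange]; exact ⟨z, h, eB.apply_symm_apply P⟩)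
  obtain ⟨s, hs, hsz⟩ := Groth.L14.NRQuot.exists_section_through eT (snd X T).left z hzc
  let sO : T ⟶ X ⊗ T := Over.homMk s (by
    show s ≫ (X ⊗ T).hom = T.hom
    rw [← Over.w (snd X T), reassoc_of% hs])
  have hsO : sO = lift (sO ≫ fst X T) (𝟙 T) := by
    refine CartesianMonoidalCategory.hom_ext _ _ (lift_fst _ _).symm ?_
    rw [lift_snd]
    exact Over.OverMorphism.ext hs
  let y : T ⟶ X := sO ≫ fst X T
  have heq := GITProper.psi_equivariant a x
  have hmem : ∀ q : (G ⊗ T).left,
      (GIT.psi a y).left.base q ∈ closure (Set.range (GIT.psi a x).left.base) ∧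
        (GIT.psi a y).left.base q ∉ Set.range (GIT.psi a x).left.base := by
    intro q
    let w := (G ◁ sO).left.base q
    have hw : (snd G (X ⊗ T)).left.base w = z := by
      show ((G ◁ sO) ≫ snd G (X ⊗ T)).left.base q = z
      rw [whiskerLeft_snd]
      exact hsz _
    have he : (GIT.psi a y).left.base q = (GITProper.fstAct a T).act.left.base w := by
      rw [← whiskerLeft_fstAct a y, show lift y (𝟙 T) = sO from hsO.symm]
      rfl
    rw [he]
    refine ⟨act_closure_subset (GITProper.fstAct a T) _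
      (fun v hv => Groth.L14.NRQuot.image_range_subset heq v hv) w (hw.symm ▸ hzcl), fun hr => ?_⟩
    exact GITProper.image_compl_range (GITProper.trAct T) (GITProper.fstAct a T) heq
      ⟨w, show (snd G (X ⊗ T)).left.base w ∉ _ by rw [hw]; exact hzR, rfl⟩ hr
  haveI : Nontrivial Γ((G ⊗ T).left, ⊤) := by
    haveI : Nonempty (G ⊗ T).left :=
      ⟨(lift (1 : T ⟶ G) (𝟙 T)).left.base (eT.inv.base (IsLocalRing.closedPoint Ω))⟩
    exact PrimeSpectrum.nonempty_iff_nontrivial.1 ⟨eC (Classical.arbitrary _)⟩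
  haveI : LocallyQuasiFinite (GIT.psi a y).left :=
    MorphismProperty.of_isPullback (P := @LocallyQuasiFinite) (GITProper.isPullback_psi a y) inferInstance
  refine false_of_range_subset_closure (φ y) (φ x) ?_ ?_ ?_
  · exact (HasRingHomProperty.iff_of_isAffine (P := @LocallyQuasiFinite)).1 inferInstance
  · rw [← hrange, ← hrange, ← eB.image_closure]
    refine Set.image_mono ?_
    rintro _ ⟨q, rfl⟩
    exact (hmem q).1
  · rw [← hrange, ← hrange, Set.disjoint_image_iff eB.injective, Set.disjoint_left]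
    rintro _ ⟨q, rfl⟩
    exact (hmem q).2

end Groth.L14.HMProj
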