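import Groth.Agent.L14.HMProj.Vec
import Groth.Agent.L26.AV.SmoothField

/-!
# The numerical criterion for semi-stability on a proper scheme
-/

set_option autoImplicit false
set_option linter.style.haveILetI false
set_option backward.isDefEq.respectTransparency false
set_option backward.isDefEq.respectTransparency.types false

noncomputable section

universe u

open CategoryTheory CategoryTheory.Limits MonoidalCategory CartesianMonoidalCategory MonObj AlgebraicGeometry
open LaurentPolynomial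
open scoped TensorProduct

namespace Groth.L14.HMProj

open Groth.L18.KEval Groth.L18.MuConj Groth.L18.TorusChars Groth.L18.MuPoints
open Groth.L25.Bridge (P)
open Groth.L14.GITLin (nv coe_nv)

variable {k : Type u} [Field k] [IsAlgClosed k] [CharZero k]

attribute [local instance] constAlg gmGrp

variable {G X : Over (Bs k)} [GrpObj G]

/-- A coordinate model of a reductive group. -/
theorem exists_setup (hG : Red.IsReductive G) :
    IsAffine G.left ∧ Smooth G.hom ∧ IsReduced G.left ∧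
      ∃ (A : Type u) (_ : CommRing A) (_ : HopfAlgebra k A) (_ : Algebra.FiniteType k A) (_ : _root_.IsReduced A),
        HopfRep.IsLinearlyReductive k A ∧ Nonempty (Grp.mk G ≅ Grp.mk (P k A)) := by
  haveI := hG.1
  haveI : IsAffine G.left := isAffine_of_isAffineHom G.hom
  haveI : Smooth G.hom := hG.2.1
  obtain ⟨A, _, _, ⟨e⟩⟩ := Groth.L25.Bridge.exists_hopf G
  have hG' := Groth.L14.GITAff.isReductive_congr e hG
  haveI : Algebra.FiniteType k A := Groth.L14.RedLR.finiteType_of_smooth hG'.2.1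
  exact ⟨inferInstance, inferInstance, Groth.Agent.AV.isReduced_of_smooth_field G.hom,
    A, _, _, inferInstance, Groth.L08.CartierRed.isReduced_of_charZero (k := k),
    Groth.L14.RedLR.isLinearlyReductive_of_isReductive hG', ⟨e⟩⟩

variable {a : AlgGrp.Action G X} {B : GLinSh.LinBun G a}

/-- An invariant function takes one value along an orbit. -/
theorem evT_act_of_isInvFn {f : Γ(B.V.left, ⊤)} (hf : GLinSh.IsInvFn B.lift f) (g : Pt G) (v : Pt B.V) :
    evT (lift g v ≫ B.lift.act) f = evT v f := by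
  rw [← evT_comp, hf, evT_comp, lift_snd]

variable [IsProper X.hom]

/-- A semi-stable point has non-negative numerical function. -/
theorem nonneg_of_isSemistablePt (hB : HMNum.AmpleCover B) (x : Pt X)
    (h : B.IsSemistablePt (x.left.base star)) (l : Red.Gm (Bs k) ⟶ G) [IsMonHom l] (m : ℤ)
    (hm : HMNum.IsMu B l x m) : 0 ≤ m := by
  classical
  haveI : Infinite k := IsAlgClosed.instInfinite
  obtain ⟨n₀, f₀, hn₀, ⟨hw₀, hi₀⟩, hx₀, -⟩ := h
  obtain ⟨hX, hcov⟩ := hB
  choose n f hn hf hz U hU hUa using hcov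
  obtain ⟨Z, hZ⟩ := hX.isCompact_univ.elim_finite_subcover (fun z => (U z : Set X.left)) (fun z => (U z).2)
    fun z _ => Set.mem_iUnion.2 ⟨z, (hU z).ge (hz z)⟩
  have e₁ : Grp.mk (Red.Gm (Bs k)) ≅ Grp.mk (Red.DS (Bs k) ℤ) := Iso.refl _
  haveI : IsAffine (Red.Gm (Bs k)).left := isAffine_of_split e₁
  choose Φ hΦ hexp using fun j : ↥Z => exists_expansion B l hX (span_of_split e₁) (f j)
  obtain ⟨U₀, y₁, hxU, hy₁⟩ := exists_chart B x
  obtain ⟨v, hv, hv1⟩ := exists_fibre_pt B hy₁ x hxU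
  choose c hc using fun j => hexp j v
  have hne0 : evT v f₀ ≠ 0 := by
    obtain ⟨c₀, hc₀, hc₀'⟩ := exists_weight_coeff B hw₀ hy₁
    rw [hc₀ v x hv hxU, hv1, one_pow, _root_.mul_one]
    exact hc₀' x hxU hx₀
  let n' : Option ↥Z → ℕ := fun j => j.elim n₀ fun z => n z
  let f' : Option ↥Z → Γ(B.V.left, ⊤) := fun j => j.elim f₀ fun z => f z
  let Φ' : Option ↥Z → Finset (Pt (Red.Gm (Bs k)) →* k) := fun j => j.elim {1} Φ
  let c' : Option ↥Z → (Pt (Red.Gm (Bs k)) →* k) → k := fun j => j.elim (fun _ => evT v f₀) c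
  obtain ⟨hle, -⟩ := Groth.L18.MuTorus.isMu_le_and_attained B l n' f'
    (fun j => by cases j with
      | none => exact hn₀
      | some z => exact hn z)
    (fun j => by cases j with
      | none => exact hw₀
      | some z => exact hf z)
    (fun z => by
      obtain ⟨j, hj, hzj⟩ := Set.mem_iUnion₂.1 (hZ (Set.mem_univ z))
      exact ⟨some ⟨j, hj⟩, (hU j).le hzj⟩)
    Φ' (fun j => by cases j with
      | none =>
        intro χ hχ
        rw [Finset.mem_singleton.1 (Finset.mem_coe.1 hχ)]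
        exact one_mem _
      | some z => exact hΦ z)
    x v hv hy₁ hxU (hv1 ▸ one_ne_zero) c'
    (fun j s => by cases j with
      | none =>
        refine (evT_act_of_isInvFn hi₀ _ v).trans ?_
        show _ = ∑ χ ∈ ({1} : Finset (Pt (Red.Gm (Bs k)) →* k)), evT v f₀ * χ s
        rw [Finset.sum_singleton, MonoidHom.one_apply, _root_.mul_one]
      | some z => exact hc z s)
    (𝟙 _) m (isMu_congr (Category.id_comp l).symm hm)
  have h1 : (n₀ : ℤ) * (-m) ≤ pair (1 : Pt (Red.Gm (Bs k)) →* k) (𝟙 (Red.Gm (Bs k))) :=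
    hle none 1 (Finset.mem_singleton_self _) hne0
  rw [pair_eq (T := Red.Gm (Bs k)) (χ := 1) (l := 𝟙 (Red.Gm (Bs k))) (n := 0)
    (fun b => by rw [MonoidHom.one_apply, zpow_zero])] at h1
  have hn0' : (0 : ℤ) < n₀ := by exact_mod_cast hn₀
  nlinarith

section

variable [IsAffine G.left] [LocallyOfFiniteType G.hom] [AlgebraicGeometry.IsReduced G.left]
  {A : Type u} [CommRing A] [HopfAlgebra k A] [Algebra.FiniteType k A] {e : Grp.mk G ≅ Grp.mk (P k A)}
  (D : Rep B e)

/-- The numerical function of a point gives that of its vector. -/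
theorem Rep.exists_isMu_vec (x : Pt X) (v : Pt B.V) (hv : v ≫ B.π = x) {U₀ : X.left.Opens}
    {y₁ : Γ(B.V.left, B.π.left ⁻¹ᵁ U₀)} (hy₁ : y₁ ∈ B.atlas.chart U₀) (hxU : Mem x U₀)
    (hne : ev v (B.π.left ⁻¹ᵁ U₀) y₁ ≠ 0) (lam : A →ₐc[k] k[T;T⁻¹]) :
    letI := D.comod; haveI := D.isCoactAlg
    ∃ m' : ℤ, (haveI := isMonHom_onePS e lam; HMNum.IsMu B (onePS e lam) x m') ∧
      ∀ m : ℤ, GLin.IsMu k A lam (D.vec v) m → m = (D.N : ℤ) * m' := by
  letI := D.comod
  haveI := D.isCoactAlg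
  haveI := isMonHom_onePS e lam
  haveI : Infinite k := IsAlgClosed.instInfinite
  obtain ⟨m', hm'⟩ := Groth.L18.MuTorus.exists_isMu B (onePS e lam) x
  refine ⟨m', hm', fun m hm => ?_⟩
  obtain ⟨m₀, -, huniq⟩ := Groth.L14.HM.Gen.MuFun.existsUnique_isMu lam (D.vec_ne_zero x v hv hy₁ hxU hne)
  rw [huniq m hm, huniq _ (D.isMu_vec x v hv hy₁ hxU hne lam m' hm')]

end

/-- **Semi-stability is non-negativity of the numerical function.** -/
theorem isSemistablePt_iff (hG : Red.IsReductive G) (hB : HMNum.AmpleCover B) (x : Pt X) :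
    B.IsSemistablePt (x.left.base star) ↔
      ∀ (l : Red.Gm (Bs k) ⟶ G) [IsMonHom l] (m : ℤ), HMNum.IsMu B l x m → 0 ≤ m := by
  refine ⟨fun h l _ m hm => nonneg_of_isSemistablePt hB x h l m hm, fun h => ?_⟩
  obtain ⟨_, _, _, A, _, _, _, _, hLR, ⟨e⟩⟩ := exists_setup hG
  obtain ⟨D⟩ := exists_rep B e hB
  letI := D.comod
  haveI := D.isCoactAlg
  obtain ⟨U₀, y₁, hxU, hy₁⟩ := exists_chart B x
  obtain ⟨v, hv, hv1⟩ := exists_fibre_pt B hy₁ x hxU
  have hne : ev v (B.π.left ⁻¹ᵁ U₀) y₁ ≠ 0 := hv1 ▸ one_ne_zero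
  have hss : GLin.IsSemistableVec k A (D.vec v) :=
    (Groth.L14.HM.Gen.isSemistableVec_iff_mu hLR D.isLinear _ (D.vec_ne_zero x v hv hy₁ hxU hne)).2 fun lam m hm => by
      haveI := isMonHom_onePS e lam
      obtain ⟨m', hm', hu⟩ := D.exists_isMu_vec x v hv hy₁ hxU hne lam
      rw [hu m hm]
      exact mul_nonneg (Int.natCast_nonneg _) (h (onePS e lam) m' hm')
  obtain ⟨d, p, hp, hd, hinv, -, hmem, haff⟩ := D.isSemistablePt x v hv hss
  exact ⟨D.N * d, D.sect p, Nat.mul_pos D.hN hd, hinv, hmem, nv B.atlas (D.hasWeight_sect hp), coe_nv _ _, haff⟩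

end Groth.L14.HMProj
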