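import Groth.Agent.L18.GIT.TorusChars
import Groth.Agent.L25.Bridge.Lift
import Groth.Agent.L14.HM.Gen.Torus
import Groth.Prelude.Def_CoactBr
import Groth.Prelude.Def_SGA3t2b

/-!
# Points of an affine group and one-parameter subgroups, on coordinate rings
-/

set_option autoImplicit false
set_option linter.style.haveILetI false
set_option backward.isDefEq.respectTransparency false
set_option backward.isDefEq.respectTransparency.types false

noncomputable section

universe u

open CategoryTheory CategoryTheory.Limits MonoidalCategory CartesianMonoidalCategory MonObj AlgebraicGeometry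
open LaurentPolynomial
open scoped TensorProduct

namespace Groth.L14.HMProj

open Groth.L18.KEval Groth.L18.TorusChars
open Groth.L25.Bridge (P)

variable {k : Type u} [Field k]

/-- The scalars on functions. -/
@[reducible] def gAlg (Y : Over (Bs k)) : Algebra k Γ(Y.left, ⊤) := (const Y).toAlgebra

attribute [local instance] gAlg

/-- Pullback of functions as a map of algebras. -/
def appAlg {Y Z : Over (Bs k)} (q : Y ⟶ Z) : Γ(Z.left, ⊤) →ₐ[k] Γ(Y.left, ⊤) where
  toRingHom := q.left.appTop.hom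
  commutes' c := appTop_const q c

/-- The comparison of an object with the spectrum of its functions. -/
def toSp (T : Over (Bs k)) : T ⟶ CoactBr.sp k Γ(T.left, ⊤) :=
  Over.homMk T.left.toSpecΓ (by
    show T.left.toSpecΓ ≫ Spec.map ((Scheme.ΓSpecIso (CommRingCat.of k)).inv ≫ T.hom.appTop) = T.hom
    rw [Spec.map_comp, ← Scheme.toSpecΓ_naturality_assoc, ← Scheme.isoSpec_Spec_inv,
      Scheme.toSpecΓ_isoSpec_inv, Category.comp_id])

theorem toSp_pt_appTop {T : Over (Bs k)} {A : Type u} [CommRing A] [Algebra k A]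
    (α : A →ₐ[k] Γ(T.left, ⊤)) (x : A) :
    (toSp T ≫ CoactBr.pt α).left.appTop ((Scheme.ΓSpecIso (CommRingCat.of A)).inv x) = α x := by
  rw [Over.comp_left, Scheme.Hom.comp_appTop, CoactBr.pt_left, CommRingCat.comp_apply]
  have h := congrArg (fun z => z.hom x) (Scheme.ΓSpecIso_inv_naturality (CommRingCat.ofHom α.toRingHom))
  simp only [CommRingCat.hom_comp, RingHom.comp_apply] at h
  refine (congrArg T.left.toSpecΓ.appTop.hom h.symm).trans ?_
  simp only [toSp, Over.homMk_left, Scheme.toSpecΓ_appTop]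
  exact congrArg (fun z => z.hom (α x)) (Scheme.ΓSpecIso (CommRingCat.of Γ(T.left, ⊤))).inv_hom_id

variable {G : Over (Bs k)} [GrpObj G] {A : Type u} [CommRing A] [HopfAlgebra k A]
  (e : Grp.mk G ≅ Grp.mk (P k A))

/-- The isomorphism to the spectrum. -/
abbrev eh : G ⟶ CoactBr.sp k A := e.hom.hom.hom

/-- Its inverse. -/
abbrev ei : CoactBr.sp k A ⟶ G := e.inv.hom.hom

theorem eh_ei : eh e ≫ ei e = 𝟙 G := congrArg (fun z => z.hom.hom) e.hom_inv_id

theorem ei_eh : ei e ≫ eh e = 𝟙 (CoactBr.sp k A) := congrArg (fun z => z.hom.hom) e.inv_hom_id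

theorem mul_eh {T : Over (Bs k)} (g h : T ⟶ G) : (g * h) ≫ eh e = (g ≫ eh e) * (h ≫ eh e) := by
  haveI : IsMonHom (eh e) := e.hom.hom.isMonHom_hom
  exact MonObj.mul_comp g h _

theorem one_eh {T : Over (Bs k)} : (1 : T ⟶ G) ≫ eh e = 1 := by
  haveI : IsMonHom (eh e) := e.hom.hom.isMonHom_hom
  exact MonObj.one_comp _

theorem inv_eh {T : Over (Bs k)} (g : T ⟶ G) : g⁻¹ ≫ eh e = (g ≫ eh e)⁻¹ := by
  haveI : IsMonHom (eh e) := e.hom.hom.isMonHom_hom
  exact GrpObj.inv_comp g _

theorem cancel_eh {T : Over (Bs k)} {g h : T ⟶ G} (w : g ≫ eh e = h ≫ eh e) : g = h := by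
  have := congrArg (· ≫ ei e) w
  simpa only [Category.assoc, eh_ei, Category.comp_id] using this

/-- The coordinate functions of the group as functions on it. -/
def θ : A →+* Γ(G.left, ⊤) := ((Scheme.ΓSpecIso (CommRingCat.of A)).inv ≫ (eh e).left.appTop).hom

theorem θ_surjective : Function.Surjective (θ e) := by
  intro f
  refine ⟨(Scheme.ΓSpecIso (CommRingCat.of A)).hom ((ei e).left.appTop f), ?_⟩
  show (eh e).left.appTop ((Scheme.ΓSpecIso (CommRingCat.of A)).inv _) = f
  rw [← CommRingCat.comp_apply (Scheme.ΓSpecIso (CommRingCat.of A)).hom, Iso.hom_inv_id, CommRingCat.id_apply,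
    ← CommRingCat.comp_apply, ← Scheme.Hom.comp_appTop, ← Over.comp_left, eh_ei, Over.id_left,
    Scheme.Hom.id_appTop]
  rfl

theorem θ_algebraMap (c : k) : θ e (algebraMap k A c) = const G c := by
  show (eh e).left.appTop ((Scheme.ΓSpecIso (CommRingCat.of A)).inv (algebraMap k A c)) = _
  rw [← appTop_const (eh e) c]
  refine congrArg _ ?_
  have h := congrArg (fun z => z.hom c) (Scheme.ΓSpecIso_inv_naturality (CommRingCat.ofHom (algebraMap k A)))
  exact h

/-- The coordinates of a point. -/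
def coord {T : Over (Bs k)} (g : T ⟶ G) : A →ₐ[k] Γ(T.left, ⊤) where
  toRingHom := g.left.appTop.hom.comp (θ e)
  commutes' c := by
    show g.left.appTop (θ e (algebraMap k A c)) = const T c
    rw [θ_algebraMap, appTop_const]

theorem coord_apply {T : Over (Bs k)} (g : T ⟶ G) (x : A) : coord e g x = g.left.appTop (θ e x) := rfl

theorem coord_comp {T T' : Over (Bs k)} (q : T' ⟶ T) (g : T ⟶ G) (x : A) :
    coord e (q ≫ g) x = q.left.appTop (coord e g x) := by
  rw [coord_apply, coord_apply, Over.comp_left, Scheme.Hom.comp_appTop]; rfl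

theorem eq_toSp_pt {T : Over (Bs k)} (g : T ⟶ G) : g ≫ eh e = toSp T ≫ CoactBr.pt (coord e g) := by
  haveI : IsAffine (CoactBr.sp k A).left := inferInstanceAs (IsAffine (Spec (CommRingCat.of A)))
  refine Over.OverMorphism.ext (ext_of_isAffine ?_)
  ext f
  obtain ⟨x, rfl⟩ := (ConcreteCategory.bijective_of_isIso (Scheme.ΓSpecIso (CommRingCat.of A)).inv).2 f
  show (g ≫ eh e).left.appTop _ = (toSp T ≫ CoactBr.pt (coord e g)).left.appTop _
  rw [toSp_pt_appTop, coord_apply, Over.comp_left, Scheme.Hom.comp_appTop]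
  rfl

theorem coord_eq {T : Over (Bs k)} {g : T ⟶ G} {α : A →ₐ[k] Γ(T.left, ⊤)}
    (h : g ≫ eh e = toSp T ≫ CoactBr.pt α) : coord e g = α :=
  AlgHom.ext fun x => by
    rw [← toSp_pt_appTop α x, ← h, coord_apply, Over.comp_left, Scheme.Hom.comp_appTop]
    rfl

theorem coord_injective {T : Over (Bs k)} {g h : T ⟶ G} (w : coord e g = coord e h) : g = h :=
  cancel_eh e (by rw [eq_toSp_pt, eq_toSp_pt e h, w])

/-- The point with given coordinates. -/
def ptOf {T : Over (Bs k)} (α : A →ₐ[k] Γ(T.left, ⊤)) : T ⟶ G := toSp T ≫ CoactBr.pt α ≫ ei e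

theorem coord_ptOf {T : Over (Bs k)} (α : A →ₐ[k] Γ(T.left, ⊤)) : coord e (ptOf e α) = α :=
  coord_eq e (by rw [ptOf, Category.assoc, Category.assoc, ei_eh, Category.comp_id])

theorem coord_mul {T : Over (Bs k)} (g h : T ⟶ G) :
    coord e (g * h) = (Algebra.TensorProduct.lift (coord e g) (coord e h) fun _ _ => .all _ _).comp
      (Bialgebra.comulAlgHom k A) :=
  coord_eq e (by rw [mul_eh, eq_toSp_pt, eq_toSp_pt e h, ← MonObj.comp_mul, CoactBr.pt_mul_pt])

theorem coord_one {T : Over (Bs k)} :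
    coord e (1 : T ⟶ G) = (Algebra.ofId k Γ(T.left, ⊤)).comp (Bialgebra.counitAlgHom k A) :=
  coord_eq e (by rw [one_eh, ← CoactBr.one_eq_pt, MonObj.comp_one])

theorem coord_inv {T : Over (Bs k)} (g : T ⟶ G) :
    coord e g⁻¹ = (coord e g).comp (HopfAlgebra.antipodeAlgHom k A) :=
  coord_eq e (by rw [inv_eh, eq_toSp_pt, ← GrpObj.comp_inv, CoactBr.pt_inv])

/-- The values of the coordinates at a rational point. -/
def apt (g : Pt G) : A →ₐ[k] k where
  toRingHom := (evT g).comp (θ e)
  commutes' c := by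
    show evT g (θ e (algebraMap k A c)) = c
    rw [θ_algebraMap, evT_const]

theorem apt_apply (g : Pt G) (x : A) : apt e g x = evT g (θ e x) := rfl

theorem gs_coord (g : Pt G) (x : A) : gs (coord e g x) = apt e g x := by
  rw [coord_apply, apt_apply]
  show _ = gs (g.left.appLE ⊤ (g.left ⁻¹ᵁ ⊤) le_rfl _)
  rw [Scheme.Hom.appLE_eq_app]
  rfl

theorem gs_algebraMap (c : k) : gs (algebraMap k Γ((𝟙_ (Over (Bs k))).left, ⊤) c) = c := by
  show gs (const (𝟙_ (Over (Bs k))) c) = c
  simp [const, gs]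

theorem apt_injective {g h : Pt G} (w : apt e g = apt e h) : g = h :=
  coord_injective e (AlgHom.ext fun x => gs_injective (by rw [gs_coord, gs_coord, w]))

theorem apt_surjective (φ : A →ₐ[k] k) : ∃ g : Pt G, apt e g = φ :=
  ⟨ptOf e ((Algebra.ofId k _).comp φ), AlgHom.ext fun x => by
    rw [← gs_coord, coord_ptOf, AlgHom.comp_apply, Algebra.ofId_apply, gs_algebraMap]⟩

theorem apt_mul (g h : Pt G) :
    apt e (g * h) = (Algebra.TensorProduct.lift (apt e g) (apt e h) fun _ _ => .all _ _).comp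
      (Bialgebra.comulAlgHom k A) := by
  refine AlgHom.ext fun x => ?_
  rw [← gs_coord, coord_mul, AlgHom.comp_apply, AlgHom.comp_apply]
  generalize Bialgebra.comulAlgHom k A x = z
  induction z using TensorProduct.induction_on with
  | zero => rw [map_zero, map_zero, map_zero]
  | tmul a b => simp only [Algebra.TensorProduct.lift_tmul, map_mul, gs_coord]
  | add a b ha hb => simp only [map_add, ha, hb]

theorem apt_one : apt e 1 = Bialgebra.counitAlgHom k A := AlgHom.ext fun x => by
  rw [← gs_coord, coord_one, AlgHom.comp_apply, Algebra.ofId_apply, gs_algebraMap]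

theorem apt_inv (g : Pt G) : apt e g⁻¹ = (apt e g).comp (HopfAlgebra.antipodeAlgHom k A) :=
  AlgHom.ext fun x => by rw [← gs_coord, coord_inv, AlgHom.comp_apply, gs_coord, AlgHom.comp_apply]

section OneParam

/-- Laurent polynomials as functions on the multiplicative group, through inversion. -/
def Θ : k[T;T⁻¹] →ₐ[k] Γ((Red.Gm (Bs k)).left, ⊤) := AddMonoidAlgebra.lift k _ ℤ ((Groth.L11.Magnet.MPts.char (𝟙 (Magnet.AMonS (Bs k) ℤ))).comp invMonoidHom)

theorem Θ_T (n : ℤ) : Θ (k := k) (T n) = mon ℤ (Multiplicative.ofAdd (-n)) := by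
  rw [Θ, LaurentPolynomial.T, AddMonoidAlgebra.lift_single, one_smul]
  rfl

variable (lam : A →ₐc[k] k[T;T⁻¹])

/-- The inverse of the one-parameter subgroup of a homomorphism of bialgebras. -/
def onePS : Red.Gm (Bs k) ⟶ G := ptOf e (Θ.comp (lam : A →ₐ[k] k[T;T⁻¹]))

theorem coord_onePS (x : A) : coord e (onePS e lam) x = Θ (lam x) := by
  rw [onePS, coord_ptOf]; rfl

theorem isMonHom_onePS : IsMonHom (onePS e lam) := by
  refine ⟨?_, ?_⟩
  · have h1 : (η[G] : 𝟙_ (Over (Bs k)) ⟶ G) = 1 := by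
      rw [Hom.one_def, toUnit_unique (toUnit (𝟙_ (Over (Bs k)))) (𝟙 _), Category.id_comp]
    have h2 : (η[Red.Gm (Bs k)] : 𝟙_ (Over (Bs k)) ⟶ _) = 1 := by
      rw [Hom.one_def, toUnit_unique (toUnit (𝟙_ (Over (Bs k)))) (𝟙 _), Category.id_comp]
    rw [h1, h2]
    refine coord_injective e (AlgHom.ext fun x => ?_)
    rw [coord_comp, coord_onePS, coord_one, AlgHom.comp_apply, Bialgebra.counitAlgHom_apply,
      ← CoalgHomClass.counit_comp_apply lam x]
    generalize lam x = z
    induction z using LaurentPolynomial.induction_on' with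
    | add p q hp hq => simp only [map_add, hp, hq]
    | C_mul_T n c =>
      rw [LaurentPolynomial.C_eq_algebraMap, map_mul, AlgHom.commutes, map_mul, Θ_T,
        Bialgebra.counit_mul, Bialgebra.counit_algebraMap, LaurentPolynomial.counit_T, map_mul, map_one]
      congr 1
      · exact appTop_const _ c
      · show Scheme.Hom.appTop _ (Groth.L11.Magnet.MPts.char (𝟙 _) _) = _
        rw [← Groth.L11.Magnet.MPts.char_comp, Category.comp_id, Groth.L11.Magnet.MPts.char_one,
          MonoidHom.one_apply]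
  · have hμ : ∀ (M : Over (Bs k)) [MonObj M], (μ[M] : M ⊗ M ⟶ M) = fst M M * snd M M := fun M _ => by
      rw [Hom.mul_def, lift_fst_snd, Category.id_comp]
    rw [hμ G, MonObj.comp_mul, tensorHom_fst, tensorHom_snd, hμ (Red.Gm (Bs k))]
    refine coord_injective e (AlgHom.ext fun x => ?_)
    rw [coord_comp, coord_onePS, coord_mul, AlgHom.comp_apply, Bialgebra.comulAlgHom_apply]
    set f₁ := fst (Red.Gm (Bs k)) (Red.Gm (Bs k))
    set f₂ := snd (Red.Gm (Bs k)) (Red.Gm (Bs k))
    have h1 : coord e (f₁ ≫ onePS e lam) = ((appAlg f₁).comp Θ).comp (lam : A →ₐ[k] k[T;T⁻¹]) :=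
      AlgHom.ext fun y => by rw [coord_comp, coord_onePS]; rfl
    have h2 : coord e (f₂ ≫ onePS e lam) = ((appAlg f₂).comp Θ).comp (lam : A →ₐ[k] k[T;T⁻¹]) :=
      AlgHom.ext fun y => by rw [coord_comp, coord_onePS]; rfl
    have key : (appAlg (f₁ * f₂)).comp Θ =
        (Algebra.TensorProduct.lift ((appAlg f₁).comp Θ) ((appAlg f₂).comp Θ) fun _ _ => .all _ _).comp
          (Bialgebra.comulAlgHom k k[T;T⁻¹]) := by
      refine AddMonoidAlgebra.algHom_ext (R := k) (A := k) (fun n => ?_) (Subsingleton.elim _ _)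
      change (f₁ * f₂).left.appTop (Θ (T n)) =
        Algebra.TensorProduct.lift ((appAlg f₁).comp Θ) ((appAlg f₂).comp Θ) (fun _ _ => .all _ _)
          (CoalgebraStruct.comul (R := k) (T n : k[T;T⁻¹]))
      rw [LaurentPolynomial.comul_T, Algebra.TensorProduct.lift_tmul]
      change _ = f₁.left.appTop (Θ (T n)) * f₂.left.appTop (Θ (T n))
      rw [Θ_T]
      simp only [mon, ← Groth.L11.Magnet.MPts.char_comp, Category.comp_id]
      rw [Groth.L11.Magnet.MPts.char_mul, MonoidHom.mul_apply]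
    refine (AlgHom.congr_fun key (lam x)).trans ?_
    rw [h1, h2, AlgHom.comp_apply, Bialgebra.comulAlgHom_apply, ← CoalgHomClass.map_comp_comul_apply lam x]
    generalize CoalgebraStruct.comul (R := k) x = z
    induction z using TensorProduct.induction_on with
    | zero => simp only [map_zero]
    | tmul y y' => rfl
    | add y y' hy hy' => simp only [map_add, hy, hy']

theorem evT_Θ (b : kˣ) (z : k[T;T⁻¹]) :
    Groth.L18.KEval.evT (gpt b) (Θ z) = Groth.L14.HM.Gen.evT b⁻¹ z := by
  induction z using LaurentPolynomial.induction_on' with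
  | add p q hp hq => simp only [map_add, hp, hq]
  | C_mul_T n c =>
    rw [LaurentPolynomial.C_eq_algebraMap, map_mul, AlgHom.commutes, map_mul, map_mul, Θ_T, AlgHom.commutes,
      Groth.L14.HM.Gen.evT_T, evT_mon_gpt, Units.val_zpow_eq_zpow_val, Units.val_inv_eq_inv_val, inv_zpow']
    congr 1
    exact evT_const _ c

theorem apt_onePS (b : kˣ) :
    apt e (gpt b ≫ onePS e lam) = (Groth.L14.HM.Gen.evT b⁻¹).comp (lam : A →ₐ[k] k[T;T⁻¹]) :=
  AlgHom.ext fun x => by
    rw [← gs_coord, coord_comp, coord_onePS, AlgHom.comp_apply, ← evT_Θ]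
    show _ = gs ((gpt b).left.appLE ⊤ ((gpt b).left ⁻¹ᵁ ⊤) le_rfl _)
    rw [Scheme.Hom.appLE_eq_app]
    rfl

theorem isTrivial_of_onePS_eq_one [Infinite k] (h : onePS e lam = 1) : SGA3t2b.IsTrivialBialgHom lam := by
  intro x
  refine Groth.L14.HM.Gen.eq_of_evT fun b => ?_
  have := AlgHom.congr_fun (apt_onePS e lam b⁻¹) x
  rw [_root_.inv_inv] at this
  rw [h, MonObj.comp_one, apt_one, Bialgebra.counitAlgHom_apply, AlgHom.comp_apply] at this
  rw [AlgHom.commutes]
  exact this.symm

end OneParam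

end Groth.L14.HMProj
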