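import Groth.Agent.L14.HMProj.Translate
import Groth.Agent.L14.HMProj.GrpPts
import Groth.Agent.L14.RedLR.Main
import Groth.Agent.L08.CartierRed
import Groth.Agent.Lead.GITStable
import Groth.Agent.L14.GITAff.Model
import Mathlib.AlgebraicGeometry.Morphisms.Proper

/-!
# The linear representation on sections of an ample linearised bundle
-/

set_option autoImplicit false
set_option linter.style.haveILetI false
set_option backward.isDefEq.respectTransparency false
set_option backward.isDefEq.respectTransparency.types false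

noncomputable section

universe u

open CategoryTheory CategoryTheory.Limits MonoidalCategory CartesianMonoidalCategory MonObj AlgebraicGeometry
open scoped TensorProduct

namespace Groth.L14.HMProj

open Groth.L18.KEval Groth.L18.MuConj
open Groth.L14.GITLin (nv coe_nv hasWeight_mul hasWeight_add hasWeight_zero hasWeight_pow nonvanishing_pow)
open Groth.L25.Bridge (P)

variable {k : Type u} [Field k] [IsAlgClosed k] [CharZero k]

attribute [local instance] constAlg

variable {G X : Over (Bs k)} [GrpObj G] {a : AlgGrp.Action G X} (B : GLinSh.LinBun G a)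

/-- Translation by a rational point is an isomorphism. -/
theorem isIso_transl {Y : Over (Bs k)} (b : AlgGrp.Action G Y) (g : Pt G) : IsIso (transl b g).left := by
  have key : ∀ h h' : Pt G, h' * h = 1 → transl b h ≫ transl b h' = 𝟙 Y := fun h h' e => by
    rw [comp_transl, transl, ← act_mul, ← MonObj.comp_mul, e, MonObj.comp_one, act_one]
  haveI : IsIso (transl b g) := ⟨transl b g⁻¹, key _ _ (inv_mul_cancel g), key _ _ (mul_inv_cancel g)⟩
  exact inferInstanceAs (IsIso ((Over.forget _).map (transl b g)))

/-- The non-vanishing locus of a translate. -/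
theorem nonvanishing_trF (g : Pt G) (f : Γ(B.V.left, ⊤)) :
    GLinSh.nonvanishing B.π (trF B g f) = (transl a g).left.base ⁻¹' GLinSh.nonvanishing B.π f := by
  have hsq := congrArg CommaMorphism.left (transl_π B g)
  simp only [Over.comp_left] at hsq
  have hpre : (transl B.lift g).left ⁻¹ᵁ B.V.left.basicOpen f = B.V.left.basicOpen (trF B g f) :=
    Scheme.preimage_basicOpen_top _ _
  haveI := isIso_transl B.lift g
  haveI := isIso_transl a g
  ext x
  constructor
  · rintro ⟨z, hz, rfl⟩
    refine ⟨(transl B.lift g).left.base z, hpre.ge hz, ?_⟩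
    rw [← Scheme.Hom.comp_apply, hsq, Scheme.Hom.comp_apply]
  · rintro ⟨d, hd, hdx⟩
    obtain ⟨z, hz⟩ := (transl B.lift g).left.homeomorph.surjective d
    change (transl B.lift g).left.base z = d at hz
    subst hz
    refine ⟨z, hpre.le hd, (transl a g).left.homeomorph.injective ?_⟩
    show (transl a g).left.base _ = (transl a g).left.base x
    rw [← hdx, ← Scheme.Hom.comp_apply, ← hsq, Scheme.Hom.comp_apply]

theorem isAffineOpen_nv_trF {n : ℕ} {f : Γ(B.V.left, ⊤)} (hf : GLinSh.HasWeight B.atlas.chart n f) (g : Pt G)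
    (h : IsAffineOpen (nv B.atlas hf)) : IsAffineOpen (nv B.atlas (hasWeight_trF B hf g)) := by
  haveI := isIso_transl a g
  have e : nv B.atlas (hasWeight_trF B hf g) = (transl a g).left ⁻¹ᵁ nv B.atlas hf :=
    TopologicalSpace.Opens.ext (nonvanishing_trF B g f)
  rw [e]
  exact h.preimage _

/-- A point where all members of a family vanish is a point where their combinations vanish. -/
theorem exists_mem_nonvanishing {I : Type*} (w : I → Γ(B.V.left, ⊤)) {f : Γ(B.V.left, ⊤)}
    (hf : f ∈ Submodule.span k (Set.range w)) {x : X.left} (hx : x ∈ GLinSh.nonvanishing B.π f) :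
    ∃ i, x ∈ GLinSh.nonvanishing B.π (w i) := by
  obtain ⟨z, hz, hzx⟩ := hx
  by_contra hne
  push Not at hne
  have hw : ∀ i, z ∉ B.V.left.basicOpen (w i) := fun i h => hne i ⟨z, h, hzx⟩
  have key : z ∉ B.V.left.basicOpen f := by
    clear hz
    induction hf using Submodule.span_induction with
    | mem y hy =>
      obtain ⟨i, rfl⟩ := hy
      exact hw i
    | zero => rw [Scheme.basicOpen_zero]; exact fun h => h
    | add y y' _ _ hy hy' =>
      rw [Scheme.mem_basicOpen _ _ z (show z ∈ (⊤ : B.V.left.Opens) from trivial)] at hy hy' ⊢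
      rw [map_add]
      exact fun h => (IsLocalRing.isUnit_or_isUnit_of_isUnit_add h).elim hy hy'
    | smul c y _ hy =>
      rw [smul_eq, Scheme.basicOpen_mul]
      exact fun h => hy h.2
  exact key hz

variable [IsProper X.hom]

include B in
theorem compactSpace_V : CompactSpace B.V.left := by
  haveI := B.atlas.affine
  haveI : CompactSpace X.left := QuasiCompact.compactSpace_of_compactSpace X.hom
  exact QuasiCompact.compactSpace_of_compactSpace B.π.left

include B in
theorem quasiSeparatedSpace_V : QuasiSeparatedSpace B.V.left := by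
  haveI := B.atlas.affine
  haveI : QuasiSeparatedSpace X.left := quasiSeparatedSpace_of_quasiSeparated X.hom
  exact quasiSeparatedSpace_of_quasiSeparated B.π.left

variable {A : Type u} [CommRing A] [HopfAlgebra k A] (e : Grp.mk G ≅ Grp.mk (P k A))

/-- A representation on finitely many sections of one weight which cover `X`. -/
structure Rep where
  /-- the number of sections -/
  r : ℕ
  /-- their weight -/
  N : ℕ
  /-- the weight is positive -/
  hN : 0 < N
  /-- the sections -/
  w : Fin r → Γ(B.V.left, ⊤)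
  /-- their weight -/
  hw : ∀ i, GLinSh.HasWeight B.atlas.chart N (w i)
  /-- their loci are affine -/
  haff : ∀ i, IsAffineOpen (nv B.atlas (hw i))
  /-- and cover -/
  hcov : ∀ x : X.left, ∃ i, x ∈ GLinSh.nonvanishing B.π (w i)
  /-- the matrix -/
  M : Fin r → Fin r → A
  /-- translation is linear -/
  htr : ∀ (g : Pt G) (i : Fin r), trF B g⁻¹ (w i) = ∑ l, apt e g (M i l) • w l
  /-- the matrix is multiplicative -/
  hcomul : ∀ i s, CoalgebraStruct.comul (R := k) (M i s) = ∑ l, M l s ⊗ₜ[k] M i l
  /-- and unital -/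
  hcounit : ∀ i s, CoalgebraStruct.counit (R := k) (M i s) = if i = s then 1 else 0

/-- An element of `A ⊗ A` vanishing at all pairs of points is zero. -/
theorem tensor_eq_of_forall [Algebra.FiniteType k A] {z z' : A ⊗[k] A}
    (h : ∀ φ ψ : A →ₐ[k] k, Algebra.TensorProduct.lift φ ψ (fun _ _ => .all _ _) z =
      Algebra.TensorProduct.lift φ ψ (fun _ _ => .all _ _) z') : z = z' := by
  haveI : Algebra.FiniteType k (A ⊗[k] A) := Algebra.FiniteType.trans (S := A) inferInstance inferInstance
  haveI : _root_.IsReduced (A ⊗[k] A) := Groth.L08.CartierRed.isReduced_of_charZero (k := k)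
  refine sub_eq_zero.1 (Groth.Lead.GITStable.eq_zero_of_forall_point (k := k) fun χ => ?_)
  have hχ : χ = Algebra.TensorProduct.lift (χ.comp Algebra.TensorProduct.includeLeft)
      (χ.comp Algebra.TensorProduct.includeRight) (fun _ _ => .all _ _) := by
    refine Algebra.TensorProduct.ext' fun y y' => ?_
    rw [Algebra.TensorProduct.lift_tmul, AlgHom.comp_apply, AlgHom.comp_apply, ← map_mul]
    simp
  rw [map_sub, sub_eq_zero, hχ, h]

set_option maxHeartbeats 800000 in
/-- The sections of a power of an ample bundle carry such a representation. -/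
theorem exists_rep [IsAffine G.left] [LocallyOfFiniteType G.hom] [Algebra.FiniteType k A]
    (hB : HMNum.AmpleCover B) : Nonempty (Rep B e) := by
  classical
  haveI := compactSpace_V B
  haveI := quasiSeparatedSpace_V B
  obtain ⟨hX, hcov⟩ := hB
  choose n f hn hf hz U hU hUa using hcov
  obtain ⟨Z, hZ⟩ := hX.isCompact_univ.elim_finite_subcover (fun z => (U z : Set X.left)) (fun z => (U z).2)
    fun z _ => Set.mem_iUnion.2 ⟨z, (hU z).ge (hz z)⟩
  let N := ∏ z ∈ Z, n z
  have hN : 0 < N := Finset.prod_pos fun z _ => hn z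
  let F : ↥Z → Γ(B.V.left, ⊤) := fun z => f z ^ (N / n z)
  have hdiv : ∀ z : ↥Z, n z * (N / n z) = N := fun z => Nat.mul_div_cancel' (Finset.dvd_prod_of_mem _ z.2)
  have hpos : ∀ z : ↥Z, 0 < N / n z := fun z =>
    Nat.pos_of_ne_zero fun h => by have := hdiv z; rw [h] at this; omega
  have hFw : ∀ z, GLinSh.HasWeight B.atlas.chart N (F z) := fun z => by
    have := hasWeight_pow B.atlas (hf z.1) (N / n z)
    rwa [hdiv] at this
  have hFnv : ∀ z : ↥Z, nv B.atlas (hFw z) = U z := fun z => TopologicalSpace.Opens.ext (by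
    rw [coe_nv, hU, nonvanishing_pow (hpos z)])
  choose m α β hαβ using fun z => exists_translates B (F z)
  let W : Set Γ(B.V.left, ⊤) := Set.range fun p : Pt G × ↥Z => trF B p.1 (F p.2)
  let E₀ : Submodule k Γ(B.V.left, ⊤) := Submodule.span k (Set.range fun p : Σ z : ↥Z, Fin (m z) => β p.1 p.2)
  haveI : Module.Finite k E₀ := Module.Finite.span_of_finite k (Set.finite_range _)
  obtain ⟨b, hbW, hWb, hli⟩ := exists_linearIndependent k W
  have hW0 : W ⊆ (E₀ : Set Γ(B.V.left, ⊤)) := by
    rintro _ ⟨⟨g, z⟩, rfl⟩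
    show trF B g (F z) ∈ E₀
    rw [hαβ]
    exact Submodule.sum_mem _ fun t _ => Submodule.smul_mem _ _ (Submodule.subset_span ⟨⟨z, t⟩, rfl⟩)
  have hbfin : Finite b := by
    let v : b → E₀ := fun y => ⟨y.1, hW0 (hbW y.2)⟩
    have hv : LinearIndependent k v := LinearIndependent.of_comp E₀.subtype hli
    exact hv.finite
  haveI := Fintype.ofFinite b
  let r := Fintype.card b
  let w : Fin r → Γ(B.V.left, ⊤) := fun i => ((Fintype.equivFin b).symm i).1
  have hwW : ∀ i, w i ∈ W := fun i => hbW ((Fintype.equivFin b).symm i).2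
  have hwli : LinearIndependent k w := hli.comp _ (Fintype.equivFin b).symm.injective
  have hrange : Set.range w = b := by
    show Set.range ((Subtype.val : b → _) ∘ (Fintype.equivFin b).symm) = b
    rw [Set.range_comp, Equiv.range_eq_univ, Set.image_univ, Subtype.range_coe]
  have hspan : ∀ y ∈ W, y ∈ Submodule.span k (Set.range w) := fun y hy => by
    rw [hrange, hWb]; exact Submodule.subset_span hy
  have hWinv : ∀ (g : Pt G), ∀ y ∈ W, trF B g y ∈ W := by
    rintro g _ ⟨⟨h, z⟩, rfl⟩
    exact ⟨(h * g, z), trF_mul B h g (F z)⟩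
  choose gi hgi using hwW
  have hw : ∀ i, GLinSh.HasWeight B.atlas.chart N (w i) := fun i => by
    rw [← hgi i]; exact hasWeight_trF B (hFw _) _
  have haff : ∀ i, IsAffineOpen (nv B.atlas (hw i)) := fun i => by
    have eW : nv B.atlas (hw i) = nv B.atlas (hasWeight_trF B (hFw (gi i).2) (gi i).1) :=
      TopologicalSpace.Opens.ext (by rw [coe_nv, coe_nv, ← hgi i])
    rw [eW]
    refine isAffineOpen_nv_trF B (hFw (gi i).2) _ ?_
    rw [hFnv]
    exact hUa _
  have hcov' : ∀ x : X.left, ∃ i, x ∈ GLinSh.nonvanishing B.π (w i) := fun x => by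
    obtain ⟨z, hzZ, hxz⟩ := Set.mem_iUnion₂.1 (hZ (Set.mem_univ x))
    refine exists_mem_nonvanishing B w (f := F ⟨z, hzZ⟩) (hspan _ ⟨(1, ⟨z, hzZ⟩), trF_one B _⟩) ?_
    exact (hFnv ⟨z, hzZ⟩).ge hxz
  have hex : ∀ l, ∃ κ : Γ(B.V.left, ⊤) →ₗ[k] k, ∀ s, κ (w s) = if s = l then 1 else 0 := by
    intro l
    let bs := Module.Basis.span hwli
    obtain ⟨κ, hκ⟩ := LinearMap.exists_extend (bs.coord l)
    refine ⟨κ, fun s => ?_⟩
    have h1 := LinearMap.congr_fun hκ (bs s)
    rw [bs.coord_apply, bs.repr_self, Finsupp.single_apply, LinearMap.comp_apply, Submodule.subtype_apply,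
      Module.Basis.span_apply] at h1
    exact h1
  choose κ hκ using hex
  choose mw αw βw hw' using fun i => exists_translates B (w i)
  choose a₀ ha₀ using fun i l => θ_surjective e (∑ t, κ l (βw i t) • αw i t)
  let M : Fin r → Fin r → A := fun i l => HopfAlgebra.antipodeAlgHom k A (a₀ i l)
  have hM : ∀ (g : Pt G) i l, apt e g (M i l) = κ l (trF B g⁻¹ (w i)) := fun g i l => by
    rw [← AlgHom.comp_apply, ← apt_inv, apt_apply, ha₀, map_sum, hw', map_sum]
    refine Finset.sum_congr rfl fun t _ => ?_
    rw [evT_smul, map_smul, smul_eq_mul, _root_.mul_comm]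
  have htr : ∀ (g : Pt G) (i : Fin r), trF B g⁻¹ (w i) = ∑ l, apt e g (M i l) • w l := fun g i => by
    obtain ⟨c, hc⟩ := Submodule.mem_span_range_iff_exists_fun (R := k) |>.1
      (hspan _ (hWinv g⁻¹ _ (by rw [← hgi i]; exact ⟨gi i, rfl⟩ : w i ∈ W)))
    have hcl : ∀ l, apt e g (M i l) = c l := fun l => by
      rw [hM, ← hc, map_sum]
      simp [hκ]
    simp only [hcl]
    exact hc.symm
  have huniq : ∀ {c c' : Fin r → k}, ∑ l, c l • w l = ∑ l, c' l • w l → c = c' := fun {c c'} h => by
    funext l
    have h' := congrArg (κ l) h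
    simpa [hκ] using h'
  refine ⟨⟨r, N, hN, w, hw, haff, hcov', M, htr, fun i s => tensor_eq_of_forall fun φ ψ => ?_, fun i s => ?_⟩⟩
  · obtain ⟨g, rfl⟩ := apt_surjective e φ
    obtain ⟨h, rfl⟩ := apt_surjective e ψ
    have e1 := AlgHom.congr_fun (apt_mul e g h) (M i s)
    rw [AlgHom.comp_apply, Bialgebra.comulAlgHom_apply] at e1
    rw [← e1, map_sum]
    simp only [Algebra.TensorProduct.lift_tmul]
    refine congrFun (huniq (c := fun s => apt e (g * h) (M i s))
      (c' := fun s => ∑ l, apt e g (M l s) * apt e h (M i l)) ?_) s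
    rw [← htr, _root_.mul_inv_rev, trF_mul, htr h i, map_sum]
    simp only [trF_smul, htr, Finset.smul_sum, smul_smul, Finset.sum_smul]
    rw [Finset.sum_comm]
    refine Finset.sum_congr rfl fun s _ => Finset.sum_congr rfl fun l _ => ?_
    rw [_root_.mul_comm]
  · have h1 := congrFun (huniq (c := fun s => apt e 1 (M i s)) (c' := fun s => if i = s then 1 else 0) (by
      rw [← htr, inv_one, trF_one]
      simp)) s
    rw [apt_one] at h1
    exact h1

end Groth.L14.HMProj
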