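import Groth.Agent.L14.HMProj.Translate
import Groth.Agent.L14.GITProper.PsLocus
import Mathlib.AlgebraicGeometry.AlgClosed.Basic

/-!
# Finite stabilisers on rational points
-/

set_option autoImplicit false
set_option linter.style.haveILetI false
set_option backward.isDefEq.respectTransparency false
set_option backward.isDefEq.respectTransparency.types false

noncomputable section

universe u

open CategoryTheory CategoryTheory.Limits MonoidalCategory CartesianMonoidalCategory MonObj AlgebraicGeometry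

namespace Groth.L14.HMProj

open Groth.L18.KEval Groth.L18.MuConj

variable {k : Type u} [Field k] [IsAlgClosed k] {G X : Over (Bs k)} [GrpObj G]

/-- A rational point is known by its image. -/
theorem pt_ext {Y : Over (Bs k)} [LocallyOfFiniteType Y.hom] {p q : Pt Y}
    (h : p.left.base star = q.left.base star) : p = q :=
  Over.OverMorphism.ext (ext_of_apply_closedPoint_eq Y.hom (Over.w p) (Over.w q) h)

theorem isClosed_pt {Y : Over (Bs k)} [LocallyOfFiniteType Y.hom] (p : Pt Y) :
    IsClosed ({p.left.base star} : Set Y.left) :=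
  (pointEquivClosedPoint Y.hom ⟨p.left, Over.w p⟩).2

/-- The rational point at a closed point. -/
theorem exists_pt_of_closed {Y : Over (Bs k)} [LocallyOfFiniteType Y.hom] {z : Y.left} (hz : IsClosed ({z} : Set Y.left)) :
    ∃ p : Pt Y, p.left.base star = z :=
  ⟨Over.homMk (pointOfClosedPoint Y.hom z hz) (pointOfClosedPoint_comp Y.hom z hz),
    pointOfClosedPoint_apply Y.hom z hz _⟩

/-- An open is known by its rational points. -/
theorem opens_ext {Y : Over (Bs k)} [LocallyOfFiniteType Y.hom] {O O' : Y.left.Opens}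
    (h : ∀ v : Pt Y, Mem v O ↔ Mem v O') : O = O' := by
  haveI : JacobsonSpace Y.left := LocallyOfFiniteType.jacobsonSpace Y.hom
  have key : ∀ {O O' : Y.left.Opens}, (∀ v : Pt Y, Mem v O → Mem v O') → O ≤ O' := fun {O O'} h z hz => by
    by_contra hz'
    obtain ⟨w, hw, hwc⟩ := nonempty_inter_closedPoints (Z := (O : Set Y.left) ∩ (O' : Set Y.left)ᶜ) ⟨z, hz, hz'⟩
      (O.isOpen.isLocallyClosed.inter O'.isOpen.isClosed_compl.isLocallyClosed)
    obtain ⟨p, rfl⟩ := exists_pt_of_closed hwc
    exact hw.2 (h p hw.1)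
  exact le_antisymm (key fun v => (h v).1) (key fun v => (h v).2)

variable (a : AlgGrp.Action G X)

/-- The rational points of the stabiliser. -/
def stabPts (y : Pt X) : Set (Pt G) := {g | lift g y ≫ a.act = y}

omit [IsAlgClosed k] in
/-- Stabilisers of translates are conjugate. -/
theorem stabPts_act {y : Pt X} (g : Pt G) (h : (stabPts a y).Finite) :
    (stabPts a (lift g y ≫ a.act)).Finite := by
  refine Set.Finite.of_finite_image (f := fun s => g⁻¹ * s * g) (h.subset ?_)
    fun s _ s' _ e => mul_left_cancel (mul_right_cancel e)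
  rintro _ ⟨s, hs, rfl⟩
  show lift (g⁻¹ * s * g) y ≫ a.act = y
  rw [act_mul, act_mul, show lift s (lift g y ≫ a.act) ≫ a.act = lift g y ≫ a.act from hs, ← act_mul,
    inv_mul_cancel, act_one]

variable [LocallyOfFiniteType X.hom]

/-- Finite stabiliser schemes have finitely many points. -/
theorem finite_stabPts_of_isFinite (y : Pt X) (h : IsFinite (GLinSh.stabTo a y)) : (stabPts a y).Finite := by
  haveI := h
  let St : Over (Bs k) := Over.mk (GLinSh.stabTo a y ≫ (𝟙_ (Over (Bs k))).hom)
  haveI : IsIso (𝟙_ (Over (Bs k))).hom := inferInstanceAs (IsIso (𝟙 _))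
  haveI : LocallyOfFiniteType St.hom := inferInstanceAs (LocallyOfFiniteType (GLinSh.stabTo a y ≫ _))
  have hfin : Finite St.left := by
    haveI : Subsingleton (𝟙_ (Over (Bs k))).left := inferInstanceAs (Subsingleton (PrimeSpectrum k))
    have := (GLinSh.stabTo a y).finite_preimage (s := (Set.univ : Set (𝟙_ (Over (Bs k))).left)) Set.finite_univ
    rw [Set.preimage_univ] at this
    exact Set.finite_univ_iff.1 this
  have e : ∀ g : stabPts a y, (lift g.1 (𝟙 (𝟙_ (Over (Bs k))))).left ≫ (GIT.psi a y).left =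
      𝟙 _ ≫ (lift y (𝟙 (𝟙_ (Over (Bs k))))).left := fun g => by
    rw [Category.id_comp, ← Over.comp_left, GIT.psi, comp_lift, ← Category.assoc, lift_whiskerLeft, Category.id_comp,
      lift_snd, show lift g.1 y ≫ a.act = y from g.2]
  let S : stabPts a y → Pt St := fun g => Over.homMk (pullback.lift _ _ (e g)) (by
    show pullback.lift _ _ (e g) ≫ GLinSh.stabTo a y ≫ _ = _
    rw [GLinSh.stabTo, pullback.lift_snd_assoc, Category.id_comp])
  have hinj : Function.Injective fun g => (S g).left.base star := fun g g' h => by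
    have h1 := congrArg (fun q : Pt St => q.left ≫ pullback.fst (GIT.psi a y).left (lift y (𝟙 _)).left) (pt_ext h)
    simp only [S, Over.homMk_left] at h1
    erw [pullback.lift_fst, pullback.lift_fst] at h1
    have h2 := congrArg (· ≫ fst G (𝟙_ (Over (Bs k)))) (Over.OverMorphism.ext h1)
    simp only [lift_fst] at h2
    exact Subtype.ext h2
  haveI := hfin
  exact Set.finite_coe_iff.1 (Finite.of_injective _ hinj)

/-- Finitely many points in the stabiliser give a finite fibre. -/
theorem finite_fibre_of_stabPts [LocallyOfFiniteType (GLinSh.stabTo a (𝟙 X))] (y : Pt X)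
    (h : (stabPts a y).Finite) : (GLinSh.stabTo a (𝟙 X) ⁻¹' {y.left.base star}).Finite := by
  let St : Over (Bs k) := Over.mk (GLinSh.stabTo a (𝟙 X) ≫ X.hom)
  haveI : LocallyOfFiniteType St.hom := inferInstanceAs (LocallyOfFiniteType (GLinSh.stabTo a (𝟙 X) ≫ X.hom))
  haveI : JacobsonSpace St.left := LocallyOfFiniteType.jacobsonSpace St.hom
  let τ : St ⟶ X := Over.homMk (GLinSh.stabTo a (𝟙 X)) rfl
  let σ : St ⟶ G ⊗ X := Over.homMk (pullback.fst (GIT.psi a (𝟙 X)).left (lift (𝟙 X) (𝟙 X)).left) (by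
    show _ = GLinSh.stabTo a (𝟙 X) ≫ X.hom
    rw [← Over.w (GIT.psi a (𝟙 X)), ← Over.w (lift (𝟙 X) (𝟙 X)), pullback.condition_assoc]
    rfl)
  have hcond : σ ≫ GIT.psi a (𝟙 X) = τ ≫ lift (𝟙 X) (𝟙 X) := Over.OverMorphism.ext pullback.condition
  have h1 : σ ≫ a.act = τ := by
    have := congrArg (· ≫ fst X X) hcond
    simpa [GIT.psi] using this
  have h2 : σ ≫ snd G X = τ := by
    have := congrArg (· ≫ snd X X) hcond
    simpa [GIT.psi] using this
  set F : Set St.left := GLinSh.stabTo a (𝟙 X) ⁻¹' {y.left.base star} with hF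
  have hFc : IsClosed F := (isClosed_pt y).preimage (GLinSh.stabTo a (𝟙 X)).continuous
  set s : Set St.left := F ∩ closedPoints St.left with hs
  have hsfin : s.Finite := by
    have hpt : ∀ q : s, ∃ (p : Pt St), p.left.base star = q.1 ∧ p ≫ τ = y := fun q => by
      obtain ⟨p, hp⟩ := exists_pt_of_closed (Y := St) q.2.2
      refine ⟨p, hp, pt_ext ?_⟩
      rw [Over.comp_left, Scheme.Hom.comp_apply, hp]
      exact q.2.1
    choose p hp hpy using hpt
    have hg : ∀ q : s, p q ≫ σ = lift (p q ≫ σ ≫ fst G X) y := fun q => by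
      apply CartesianMonoidalCategory.hom_ext
      · simp
      · rw [lift_snd, Category.assoc, h2, hpy]
    let g : s → stabPts a y := fun q => ⟨p q ≫ σ ≫ fst G X, by
      show lift _ y ≫ a.act = y
      rw [← hg, Category.assoc, h1, hpy]⟩
    haveI : Finite (stabPts a y) := h.to_subtype
    refine Set.finite_coe_iff.1 (Finite.of_injective g fun q q' hqq => Subtype.ext ?_)
    have e1 : p q ≫ σ ≫ fst G X = p q' ≫ σ ≫ fst G X := congrArg Subtype.val hqq
    have e2 : p q = p q' := Over.OverMorphism.ext (pullback.hom_ext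
      (congrArg CommaMorphism.left (show p q ≫ σ = p q' ≫ σ by rw [hg, hg, e1]))
      (congrArg CommaMorphism.left (show p q ≫ τ = p q' ≫ τ by rw [hpy, hpy])))
    rw [← hp q, ← hp q', e2]
  have hscl : IsClosed s := by
    rw [← Set.biUnion_of_singleton s]
    exact hsfin.isClosed_biUnion fun q hq => hq.2
  refine hsfin.subset fun z hz => ?_
  have hcl := JacobsonSpace.closure_inter_closedPoints_eq_closure (S := F) hFc.isLocallyClosed
  rw [hscl.closure_eq, hFc.closure_eq] at hcl
  exact hcl.ge hz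

/-- The locus of finite stabilisers, on rational points. -/
theorem exists_finLocus_pts [LocallyOfFiniteType G.hom] [IsSeparated G.hom] [QuasiCompact G.hom]
    [QuasiCompact X.hom] :
    ∃ S₀ : X.left.Opens, (∀ y : Pt X, Mem y S₀ ↔ (stabPts a y).Finite) ∧
      LocallyQuasiFinite (GLinSh.stabTo a (𝟙 X) ∣_ S₀) ∧
      a.act.left ⁻¹ᵁ S₀ = (snd G X).left ⁻¹ᵁ S₀ ∧
      ∀ x, x ∈ S₀ ↔ ∀ (Ω : Type u) [Field Ω] [IsAlgClosed Ω] (T : Over (Bs k))
        (_ : T.left ≅ Spec (CommRingCat.of Ω)) (f : T ⟶ X),
        Set.range f.left.base = {x} → IsFinite (GLinSh.stabTo a f) := by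
  haveI := Groth.L14.GITProper.locallyOfFiniteType_stabTo a
  obtain ⟨S₀, hmem, hlqf, hΩ⟩ := Groth.L14.GITProper.exists_finLocus a
  have hpts : ∀ y : Pt X, Mem y S₀ ↔ (stabPts a y).Finite := fun y => by
    refine ⟨fun hy => finite_stabPts_of_isFinite a y ((hΩ _).1 hy k (𝟙_ (Over (Bs k))) (Iso.refl _) y ?_),
      fun hy => (hmem _).2 (finite_fibre_of_stabPts a y hy)⟩
    ext z
    constructor
    · rintro ⟨t, rfl⟩; rw [eq_star t]; rfl
    · rintro rfl; exact ⟨star, rfl⟩
  haveI : LocallyOfFiniteType (G ⊗ X).hom := by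
    rw [← Over.w (snd G X)]
    haveI : LocallyOfFiniteType (snd G X).left :=
      MorphismProperty.of_isPullback (P := @LocallyOfFiniteType) (IsPullback.of_hasPullback G.hom X.hom) inferInstance
    infer_instance
  refine ⟨S₀, hpts, hlqf, opens_ext fun v => ?_, hΩ⟩
  show Mem (v ≫ a.act) S₀ ↔ Mem (v ≫ snd G X) S₀
  rw [hpts, hpts, ← lift_comp_fst_snd v, lift_snd]
  refine ⟨fun h => ?_, stabPts_act a _⟩
  have := stabPts_act a (v ≫ fst G X)⁻¹ h
  rwa [← act_mul, inv_mul_cancel, act_one] at this

end Groth.L14.HMProj
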