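import Groth.Agent.L14.HMProj.Crit
import Groth.Agent.L14.HMProj.StabPts
import Groth.Agent.L14.HMProj.ClosedOrbit
import Groth.Agent.L14.GITLin.Quot
import Groth.Agent.L14.GITProper.Global
import Groth.Agent.Lead.GITStableOpen

/-!
# Positivity of the numerical function gives proper stability
-/

set_option autoImplicit false
set_option linter.style.haveILetI false
set_option backward.isDefEq.respectTransparency false
set_option backward.isDefEq.respectTransparency.types false

noncomputable section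

universe u

open CategoryTheory CategoryTheory.Limits MonoidalCategory CartesianMonoidalCategory MonObj AlgebraicGeometry
open LaurentPolynomial TopologicalSpace
open scoped TensorProduct

namespace Groth.L14.HMProj

open Groth.L18.KEval Groth.L18.MuConj Groth.L18.TorusChars Groth.L18.MuPoints
open Groth.L25.Bridge (P)
open Groth.L14.GITLin (nv coe_nv hasWeight_mul hasWeight_pow quo quo_spec appLE_res)

variable {k : Type u} [Field k] [IsAlgClosed k] [CharZero k]

attribute [local instance] constAlg gmGrp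

variable {G X : Over (Bs k)} [GrpObj G]

/-- The orbit of a point, through inverses. -/
def orb {Y : Over (Bs k)} (b : AlgGrp.Action G Y) (y : Pt Y) : G ⟶ Y := lift (𝟙 G)⁻¹ (toUnit G ≫ y) ≫ b.act

omit [IsAlgClosed k] [CharZero k] in
theorem comp_orb {Y : Over (Bs k)} (b : AlgGrp.Action G Y) (y : Pt Y) (g : Pt G) :
    g ≫ orb b y = lift g⁻¹ y ≫ b.act := by
  rw [orb, comp_lift_assoc, GrpObj.comp_inv, Category.comp_id, ← Category.assoc,
    toUnit_unique (g ≫ toUnit G) (𝟙 _), Category.id_comp]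

variable {a : AlgGrp.Action G X} {B : GLinSh.LinBun G a}

omit [IsAlgClosed k] [CharZero k] in
theorem orb_π {x : Pt X} {v : Pt B.V} (hv : v ≫ B.π = x) : orb B.lift v ≫ B.π = orb a x := by
  rw [orb, orb, lift_act_π, Category.assoc, hv]

/-- The orbit of a set of points is stable. -/
theorem act_mem_range_orb (x : Pt X) (q : (G ⊗ X).left)
    (hq : (snd G X).left.base q ∈ Set.range (orb a x).left.base) :
    a.act.left.base q ∈ Set.range (orb a x).left.base := by
  obtain ⟨h, hh⟩ := hq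
  obtain ⟨r, hr, -⟩ := Groth.L14.GITAff.exists_preimage_isPullback
    (Groth.L18.GITQ.isPullback_whiskerLeft G (orb a x)) q h hh.symm
  let m : G ⊗ G ⟶ G := snd G G * (fst G G)⁻¹
  have e : (G ◁ orb a x) ≫ a.act = m ≫ orb a x := by
    rw [show (G ◁ orb a x) = lift (fst G G) (snd G G ≫ orb a x) by
      apply CartesianMonoidalCategory.hom_ext <;> simp]
    rw [orb, comp_lift_assoc, comp_lift_assoc, ← act_mul, GrpObj.comp_inv, GrpObj.comp_inv, Category.comp_id,
      Category.comp_id, ← Category.assoc, ← Category.assoc, toUnit_unique (snd G G ≫ toUnit G) (m ≫ toUnit G)]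
    congr 2
    rw [mul_inv_rev, _root_.inv_inv]
  refine ⟨m.left.base r, ?_⟩
  show (m ≫ orb a x).left.base r = _
  rw [← e, ← hr]
  rfl

variable [IsProper X.hom] [IsAffine G.left] [LocallyOfFiniteType G.hom] [AlgebraicGeometry.IsReduced G.left]
  {A : Type u} [CommRing A] [HopfAlgebra k A] {e : Grp.mk G ≅ Grp.mk (P k A)} (D : Rep B e)

theorem Rep.apt_actPt (v : Pt B.V) (g : Pt G) :
    letI := D.comod; haveI := D.isCoactAlg
    GLin.actPt k (apt e g) (GLin.vecPt k (Fin D.r) (D.vec v)) =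
      GLin.vecPt k (Fin D.r) (D.vec (lift g⁻¹ v ≫ B.lift.act)) := by
  letI := D.comod
  haveI := D.isCoactAlg
  refine MvPolynomial.algHom_ext fun i => ?_
  show apt e g (GLin.orbitHom k A (GLin.vecPt k (Fin D.r) (D.vec v)) (MvPolynomial.X i)) = _
  rw [D.apt_orbit, evT_trF]
  exact (MvPolynomial.aeval_X (D.vec (lift g⁻¹ v ≫ B.lift.act)) i).symm

theorem Rep.vec_act_congr {v v' : Pt B.V} (h : D.vec v = D.vec v') (g : Pt G) :
    D.vec (lift g v ≫ B.lift.act) = D.vec (lift g v' ≫ B.lift.act) := by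
  funext i
  show evT _ (D.w i) = evT _ (D.w i)
  rw [← evT_trF, ← evT_trF, ← _root_.inv_inv g, D.htr, map_sum, map_sum]
  refine Finset.sum_congr rfl fun l _ => ?_
  rw [evT_smul, evT_smul]
  exact congrArg _ (congrFun h l)

theorem Rep.θ_orbitHom (v : Pt B.V) (i : Fin D.r) :
    letI := D.comod; haveI := D.isCoactAlg
    θ e (GLin.orbitHom k A (GLin.vecPt k (Fin D.r) (D.vec v)) (MvPolynomial.X i)) =
      (orb B.lift v).left.appTop (D.w i) := by
  letI := D.comod
  haveI := D.isCoactAlg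
  refine sub_eq_zero.1 (eq_zero_of_evT _ fun g => ?_)
  rw [map_sub, ← apt_apply, D.apt_orbit, evT_trF, evT_comp, comp_orb, sub_self]

variable [Algebra.FiniteType k A] [_root_.IsReduced A]

/-- A stable vector gives a point with finite stabiliser. -/
theorem Rep.finite_stabPts (x : Pt X) (v : Pt B.V) (hv : v ≫ B.π = x) {U₀ : X.left.Opens}
    {y₁ : Γ(B.V.left, B.π.left ⁻¹ᵁ U₀)} (hy₁ : y₁ ∈ B.atlas.chart U₀) (hxU : Mem x U₀)
    (hv1 : ev v (B.π.left ⁻¹ᵁ U₀) y₁ = 1)
    (hfin : letI := D.comod; haveI := D.isCoactAlg; GLin.HasFiniteStab k A (GLin.vecPt k (Fin D.r) (D.vec v)))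
    {d : ℕ} (hd : 0 < d) {F : Γ(B.V.left, ⊤)} (hF : GLinSh.HasWeight B.atlas.chart (D.N * d) F)
    (hFi : GLinSh.IsInvFn B.lift F) (hFne : evT v F ≠ 0) : (stabPts a x).Finite := by
  classical
  letI := D.comod
  haveI := D.isCoactAlg
  rw [Groth.Lead.GITStable.hasFiniteStab_iff] at hfin
  have hinj : Function.Injective fun g : Pt G => apt e g⁻¹ := fun _ _ h => inv_injective (apt_injective e h)
  have hS : {g : Pt G | D.vec (lift g v ≫ B.lift.act) = D.vec v}.Finite :=
    (hfin.preimage hinj.injOn).subset fun g hg => by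
      show GLin.actPt k (apt e g⁻¹) _ = _
      rw [D.apt_actPt, _root_.inv_inv, show D.vec (lift g v ≫ B.lift.act) = D.vec v from hg]
  have hw : ∀ w : Fin D.r → k, {g : Pt G | D.vec (lift g v ≫ B.lift.act) = w}.Finite := by
    intro w
    rcases Set.eq_empty_or_nonempty {g : Pt G | D.vec (lift g v ≫ B.lift.act) = w} with h | ⟨g₀, hg₀⟩
    · rw [h]; exact Set.finite_empty
    refine Set.Finite.of_finite_image (f := fun g => g₀⁻¹ * g) (hS.subset ?_) fun g _ g' _ h => mul_left_cancel h
    rintro _ ⟨g, hg, rfl⟩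
    show D.vec (lift (g₀⁻¹ * g) v ≫ B.lift.act) = D.vec v
    rw [Groth.L18.MuConj.act_mul, D.vec_act_congr (hg.trans hg₀.symm), ← Groth.L18.MuConj.act_mul,
      inv_mul_cancel, Groth.L18.MuConj.act_one]
  obtain ⟨c₀, hc₀, -⟩ := exists_weight_coeff B hF hy₁
  choose cw hcw using fun i => exists_weight_coeff B (D.hw i) hy₁
  have key : ∀ g ∈ stabPts a x, ∃ ζ : k, ζ ^ d = 1 ∧ D.vec (lift g v ≫ B.lift.act) = ζ • D.vec v := by
    intro g hg
    have hπ : (lift g v ≫ B.lift.act) ≫ B.π = x := by rw [lift_act_π, hv]; exact hg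
    refine ⟨ev (lift g v ≫ B.lift.act) (B.π.left ⁻¹ᵁ U₀) y₁ ^ D.N, ?_, funext fun i => ?_⟩
    · have h1 := evT_act_of_isInvFn hFi g v
      rw [hc₀ _ x hπ hxU, hc₀ v x hv hxU, hv1, one_pow, _root_.mul_one] at h1
      have hne : ev x U₀ c₀ ≠ 0 := fun h0 => hFne (by rw [hc₀ v x hv hxU, h0, zero_mul])
      rw [← pow_mul]
      exact mul_left_cancel₀ hne (h1.trans (_root_.mul_one _).symm)
    · show evT _ (D.w i) = _ * evT v (D.w i)
      rw [(hcw i).1 _ x hπ hxU, (hcw i).1 v x hv hxU, hv1, one_pow, _root_.mul_one, _root_.mul_comm]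
  have hroots : {ζ : k | ζ ^ d = 1}.Finite := by
    refine ((Polynomial.nthRoots d (1 : k)).toFinset.finite_toSet).subset fun ζ hζ => ?_
    simpa [Polynomial.mem_nthRoots hd] using hζ
  refine (hroots.biUnion fun ζ _ => hw (ζ • D.vec v)).subset fun g hg => ?_
  obtain ⟨ζ, hζ, hgv⟩ := key g hg
  exact Set.mem_biUnion hζ hgv

/-- The orbit of a stable vector is closed where the invariant section does not vanish. -/
theorem Rep.isClosed_orbit (hLR : HopfRep.IsLinearlyReductive k A) (x : Pt X) (v : Pt B.V) (hv : v ≫ B.π = x)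
    (hst : letI := D.comod; haveI := D.isCoactAlg; GLin.IsStableVec k A (D.vec v))
    {d : ℕ} (hd : 0 < d) {F : Γ(B.V.left, ⊤)} (hF : GLinSh.HasWeight B.atlas.chart (D.N * d) F)
    (hFi : GLinSh.IsInvFn B.lift F) (hFne : evT v F ≠ 0) (haff : IsAffineOpen (nv B.atlas hF)) :
    IsClosed ((nv B.atlas hF).ι.base ⁻¹' Set.range (orb a x).left.base) ∧
      ∀ h, (orb a x).left.base h ∈ nv B.atlas hF := by
  classical
  letI := D.comod
  haveI := D.isCoactAlg
  set U := nv B.atlas hF with hU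
  set oV := orb B.lift v with hoV
  set o := orb a x with ho
  have hπ : oV ≫ B.π = o := orb_π hv
  have hFo : oV.left.appTop F = const G (evT v F) := by
    refine sub_eq_zero.1 (eq_zero_of_evT _ fun g => ?_)
    rw [map_sub, evT_comp, comp_orb, evT_act_of_isInvFn hFi, evT_const, sub_self]
  have hmemV : ∀ h, oV.left.base h ∈ B.V.left.basicOpen F := fun h => by
    have e1 : oV.left ⁻¹ᵁ B.V.left.basicOpen F = G.left.basicOpen (oV.left.appTop F) :=
      Scheme.preimage_basicOpen_top _ _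
    refine e1.ge ?_
    rw [hFo, Scheme.basicOpen_of_isUnit _ ((Ne.isUnit hFne).map _)]
    trivial
  have hmem : ∀ h, o.left.base h ∈ U := fun h => ⟨oV.left.base h, hmemV h, by rw [← hπ]; rfl⟩
  refine ⟨?_, hmem⟩
  have hle : ⊤ ≤ o.left ⁻¹ᵁ U := fun h _ => hmem h
  have hleV : ⊤ ≤ oV.left ⁻¹ᵁ (B.π.left ⁻¹ᵁ U) := fun h _ => by
    show B.π.left.base (oV.left.base h) ∈ U
    rw [← Scheme.Hom.comp_apply, ← Over.comp_left, hπ]; exact hmem h
  let f := (o.left.appLE U ⊤ hle).hom
  have hres : ∀ z, oV.left.appLE (B.π.left ⁻¹ᵁ U) ⊤ hleV (GLinSh.resTop B.π U z) = oV.left.appTop z := fun z => by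
    rw [GLinSh.resTop, appLE_res, Scheme.Hom.appTop, Scheme.Hom.app_eq_appLE]
    rfl
  have hbase : ∀ z, oV.left.appLE (B.π.left ⁻¹ᵁ U) ⊤ hleV (B.π.left.app U z) = f z := fun z => by
    rw [Scheme.Hom.app_eq_appLE, ← CommRingCat.comp_apply, Scheme.Hom.appLE_comp_appLE]
    exact appLE_congr_hom (congrArg CommaMorphism.left hπ) _ _ z
  have hconst : ∀ c : k, f (rsk U c) = const G c := fun c => by
    show o.left.appLE U ⊤ hle (X.left.presheaf.map (homOfLE le_top).op (const X c)) = _
    rw [appLE_res, ← appTop_const o c, Scheme.Hom.appTop, Scheme.Hom.app_eq_appLE]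
    rfl
  have hpow : ∀ i, GLinSh.HasWeight B.atlas.chart (D.N * d * 1) (D.w i ^ d) := fun i => by
    rw [_root_.mul_one]; exact hasWeight_pow B.atlas (D.hw i) d
  have hW : ∀ i, oV.left.appTop (D.w i) ^ d = f (quo B.atlas hF (hpow i)) * const G (evT v F) := fun i => by
    have h1 := congrArg (oV.left.appLE (B.π.left ⁻¹ᵁ U) ⊤ hleV) (quo_spec B.atlas hF (hpow i))
    rw [map_mul, map_pow, hres, hres, hbase, hFo, map_pow, pow_one] at h1
    exact h1
  have hrange : IsClosed (Set.range (PrimeSpectrum.comap f)) := by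
    rw [← closure_subset_iff_isClosed, PrimeSpectrum.closure_range_comap]
    intro p hp
    obtain ⟨K, _, φ, V, hV, hVp⟩ := Groth.L14.HM.Gen.eq_ker_orbit_lift' f p.asIdeal hp
    letI : Algebra k K := (φ.comp (const G)).toAlgebra
    let φA : A →ₐ[k] K := AlgHom.mk (φ.comp (θ e)) fun c => by
      show φ (θ e (algebraMap k A c)) = φ (const G c)
      rw [θ_algebraMap]
    have hk : ∀ c : k, algebraMap k K c ∈ V := fun c => by
      show φ (const G c) ∈ V
      rw [← hconst]; exact hV _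
    have hX : ∀ i, φA (GLin.orbitHom k A (GLin.vecPt k (Fin D.r) (D.vec v)) (MvPolynomial.X i)) ∈ V := fun i => by
      show φ (θ e _) ∈ V
      rw [D.θ_orbitHom]
      have h1 : φ (oV.left.appTop (D.w i)) ^ d ∈ V := by
        rw [← map_pow, hW, map_mul]
        exact mul_mem (hV _) (hk _)
      rcases V.mem_or_inv_mem (φ (oV.left.appTop (D.w i))) with h | h
      · exact h
      · by_cases h0 : φ (oV.left.appTop (D.w i)) = 0
        · rw [h0]; exact zero_mem _
        have := mul_mem h1 (pow_mem h (d - 1))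
        obtain ⟨m, rfl⟩ := Nat.exists_eq_succ_of_ne_zero hd.ne'
        rw [Nat.succ_sub_one, pow_succ', inv_pow, _root_.mul_assoc, mul_inv_cancel₀ (pow_ne_zero _ h0),
          _root_.mul_one] at this
        exact this
    have hall : ∀ z, φ z ∈ V.toSubring := fun z => by
      obtain ⟨s, rfl⟩ := θ_surjective e z
      exact Groth.L14.HM.Gen.key_of_stable hLR D.isLinear _ hst V hk φA hX s
    let q : PrimeSpectrum Γ(G.left, ⊤) :=
      ⟨(IsLocalRing.maximalIdeal V).comap (φ.codRestrict V.toSubring hall), Ideal.IsPrime.comap _⟩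
    refine ⟨q, PrimeSpectrum.ext (Ideal.ext fun r => ?_)⟩
    rw [hVp r]
    exact V.valuation_lt_one_iff ⟨φ (f r), hall _⟩
  have hsp : Spec.map (o.left.appLE U ⊤ hle) ≫ haff.fromSpec = (isAffineOpen_top G.left).fromSpec ≫ o.left :=
    haff.SpecMap_appLE_fromSpec o.left (isAffineOpen_top G.left) hle
  have hpre : haff.fromSpec.base ⁻¹' Set.range o.left.base = Set.range (PrimeSpectrum.comap f) := by
    ext p
    constructor
    · rintro ⟨h, hh⟩
      obtain ⟨q, hq⟩ : h ∈ Set.range (isAffineOpen_top G.left).fromSpec.base := by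
        rw [IsAffineOpen.range_fromSpec]; trivial
      refine ⟨q, haff.fromSpec.isOpenEmbedding.injective ?_⟩
      rw [← hh, ← hq, ← Scheme.Hom.comp_apply, ← hsp]
      rfl
    · rintro ⟨q, rfl⟩
      refine ⟨(isAffineOpen_top G.left).fromSpec.base q, ?_⟩
      rw [← Scheme.Hom.comp_apply, ← hsp]
      rfl
  rw [show U.ι = haff.isoSpec.hom ≫ haff.fromSpec from haff.isoSpec_hom_fromSpec.symm]
  have : (haff.isoSpec.hom ≫ haff.fromSpec).base ⁻¹' Set.range o.left.base =
      haff.isoSpec.hom.base ⁻¹' (haff.fromSpec.base ⁻¹' Set.range o.left.base) := rfl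
  rw [this, hpre]
  exact hrange.preimage haff.isoSpec.hom.continuous

end Groth.L14.HMProj
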