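import Groth.Agent.L14.HMProj.Stable

/-!
# Positivity of the numerical function gives proper stability: the open set
-/

set_option autoImplicit false
set_option linter.style.haveILetI false
set_option backward.isDefEq.respectTransparency false
set_option backward.isDefEq.respectTransparency.types false

noncomputable section

universe u

open CategoryTheory CategoryTheory.Limits MonoidalCategory CartesianMonoidalCategory MonObj AlgebraicGeometry
open LaurentPolynomial TopologicalSpace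
open scoped TensorProduct

namespace Groth.L14.HMProj

open Groth.L18.KEval Groth.L18.MuConj Groth.L18.TorusChars Groth.L18.MuPoints
open Groth.L25.Bridge (P)
open Groth.L14.GITLin (nv coe_nv hasWeight_mul hasWeight_pow restrict_action preimage_nv exists_inv_extend
  nonvanishing_mul nonvanishing_inter_eq isInvFn_mul appTop_topIso_inv InvOn)

variable {k : Type u} [Field k] [IsAlgClosed k] [CharZero k]

attribute [local instance] constAlg gmGrp

variable {G X : Over (Bs k)} [GrpObj G] {a : AlgGrp.Action G X}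

/-- An invariant function for a restricted action is invariant on the open. -/
theorem invOn_of_restrict (U : X.left.Opens) (aU : AlgGrp.Action G (Over.mk (U.ι ≫ X.hom)))
    (haU : aU.act ≫ (Over.homMk U.ι rfl : Over.mk (U.ι ≫ X.hom) ⟶ X) =
      (G ◁ (Over.homMk U.ι rfl : Over.mk (U.ι ≫ X.hom) ⟶ X)) ≫ a.act)
    (hU : a.act.left ⁻¹ᵁ U = (snd G X).left ⁻¹ᵁ U) (f : Γ(U.toScheme, ⊤))
    (hf : aU.act.left.appTop f = (snd G (Over.mk (U.ι ≫ X.hom))).left.appTop f) :
    InvOn a U (U.topIso.hom f) := by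
  let j : Over.mk (U.ι ≫ X.hom) ⟶ X := Over.homMk U.ι rfl
  have hpb := Groth.L18.GITQ.isPullback_whiskerLeft G j
  haveI : IsOpenImmersion j.left := inferInstanceAs (IsOpenImmersion U.ι)
  haveI : IsOpenImmersion (G ◁ j).left :=
    MorphismProperty.of_isPullback (P := @IsOpenImmersion) hpb.flip inferInstance
  set Q := a.act.left ⁻¹ᵁ U ⊓ (snd G X).left ⁻¹ᵁ U
  have hle : ⊤ ≤ (G ◁ j).left ⁻¹ᵁ Q := fun w _ => by
    have h2 : (G ◁ j).left.base w ∈ (snd G X).left ⁻¹ᵁ U := by
      show ((G ◁ j) ≫ snd G X).left.base w ∈ U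
      rw [whiskerLeft_snd]
      exact ((snd G (Over.mk (U.ι ≫ X.hom))).left.base w).2
    exact ⟨by rw [hU]; exact h2, h2⟩
  refine Groth.L14.GITLin.injective_appLE_of_flat (G ◁ j).left Q ⊤ hle (fun q hq => ?_) ?_
  · obtain ⟨w, hw, -⟩ := Groth.L14.GITAff.exists_preimage_isPullback hpb q ⟨(snd G X).left.base q, hq.2⟩ rfl
    exact ⟨w, Opens.mem_top w, hw⟩
  · show (a.act.left.appLE U Q inf_le_left ≫ (G ◁ j).left.appLE Q ⊤ hle) (U.topIso.hom f) =
      ((snd G X).left.appLE U Q inf_le_right ≫ (G ◁ j).left.appLE Q ⊤ hle) (U.topIso.hom f)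
    rw [Scheme.Hom.appLE_comp_appLE, Scheme.Hom.appLE_comp_appLE]
    have h1 : (G ◁ j).left ≫ a.act.left = aU.act.left ≫ U.ι := congrArg CommaMorphism.left haU.symm
    have h2 : (G ◁ j).left ≫ (snd G X).left = (snd G (Over.mk (U.ι ≫ X.hom))).left ≫ U.ι :=
      congrArg CommaMorphism.left (whiskerLeft_snd G j)
    rw [Groth.L18.GITQ.appLE_congr_mor h1 _ _ _ (fun w _ => (aU.act.left.base w).2),
      Groth.L18.GITQ.appLE_congr_mor h2 _ _ _ (fun w _ => ((snd G (Over.mk (U.ι ≫ X.hom))).left.base w).2)]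
    erw [← appTop_topIso_inv, ← appTop_topIso_inv, Iso.hom_inv_id_apply]
    exact hf

/-- An open inside the locus of finite stabilisers with invariant preimages has a closed action. -/
theorem closedOrbitsOn_of_le [Smooth G.hom] [IsAffineHom G.hom] [LocallyOfFiniteType X.hom]
    (U S₀ : X.left.Opens) (hle : U ≤ S₀) (haff : IsAffineOpen U)
    (hinv : a.act.left ⁻¹ᵁ U = (snd G X).left ⁻¹ᵁ U)
    (hlqf : LocallyQuasiFinite (GLinSh.stabTo a (𝟙 X) ∣_ S₀)) : GLinSh.ClosedOrbitsOn a U := by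
  haveI : IsAffine G.left := isAffine_of_isAffineHom G.hom
  obtain ⟨aU, haU⟩ := restrict_action U hinv
  let XU : Over (Bs k) := Over.mk (U.ι ≫ X.hom)
  let jU : XU ⟶ X := Over.homMk U.ι rfl
  haveI : IsOpenImmersion jU.left := inferInstanceAs (IsOpenImmersion U.ι)
  haveI : IsAffine XU.left := haff
  haveI : LocallyOfFiniteType XU.hom := inferInstanceAs (LocallyOfFiniteType (U.ι ≫ X.hom))
  haveI : LocallyQuasiFinite (GLinSh.stabTo a jU) := by
    obtain ⟨s, hs⟩ := Groth.L18.GITStab.exists_isPullback_stab a jU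
    let g : U.toScheme ⟶ S₀.toScheme := X.left.homOfLE hle
    have hg : g ≫ S₀.ι = jU.left := Scheme.homOfLE_ι _ _
    have hS := isPullback_morphismRestrict (GLinSh.stabTo a (𝟙 X)) S₀
    let s' : GLinSh.stab a jU ⟶ (GLinSh.stabTo a (𝟙 X) ⁻¹ᵁ S₀).toScheme :=
      hS.lift (GLinSh.stabTo a jU ≫ g) s (by rw [Category.assoc, hg]; exact hs.w.symm)
    have hs' : IsPullback s' (GLinSh.stabTo a jU) (GLinSh.stabTo a (𝟙 X) ∣_ S₀) g := by
      refine IsPullback.of_right ?_ (hS.lift_fst _ _ _) hS.flip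
      rw [hS.lift_snd, hg]
      exact hs
    exact MorphismProperty.of_isPullback (P := @LocallyQuasiFinite) hs' hlqf
  haveI := Groth.L14.GITProper.locallyQuasiFinite_stab_of_stabTo (a := a) jU haU
  haveI : IsAffine (G ⊗ XU).left := Groth.L14.GITProper.isAffine_tensor G XU
  haveI : IsAffine (XU ⊗ XU).left := Groth.L14.GITProper.isAffine_tensor XU XU
  haveI : LocallyOfFiniteType (GIT.psi aU (𝟙 XU)).left := by
    haveI : LocallyOfFiniteType ((GIT.psi aU (𝟙 XU)).left ≫ (snd XU XU).left) := by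
      rw [← Over.comp_left, GIT.psi, lift_snd]
      exact MorphismProperty.of_isPullback (P := @LocallyOfFiniteType) (IsPullback.of_hasPullback G.hom XU.hom)
        inferInstance
    exact locallyOfFiniteType_of_comp _ (snd XU XU).left
  haveI : QuasiCompact (GIT.psi aU (𝟙 XU)).left := inferInstance
  haveI := Groth.L14.GITProper.locallyQuasiFinite_psi aU
  exact Groth.L14.GITLin.closedOrbitsOn_of_isClosedAction jU haU (isClosedAction_of_lqf aU) U
    (Scheme.Opens.range_ι U).ge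

variable {B : GLinSh.LinBun G a} [IsProper X.hom]

/-- **Positivity of the numerical function gives proper stability.** -/
theorem isProperlyStablePt_of_pos (hG : Red.IsReductive G) (hB : HMNum.AmpleCover B) (x : Pt X)
    (h : ∀ (l : Red.Gm (Bs k) ⟶ G) [IsMonHom l], l ≠ 1 → ∀ m : ℤ, HMNum.IsMu B l x m → 0 < m) :
    B.IsProperlyStablePt (x.left.base star) := by
  classical
  haveI : IsAffineHom G.hom := hG.1
  haveI : Infinite k := IsAlgClosed.instInfinite
  obtain ⟨_, _, _, A, _, _, _, _, hLR, ⟨e⟩⟩ := exists_setup hG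
  obtain ⟨D⟩ := exists_rep B e hB
  letI := D.comod
  haveI := D.isCoactAlg
  obtain ⟨U₀, y₁, hxU, hy₁⟩ := exists_chart B x
  obtain ⟨v, hv, hv1⟩ := exists_fibre_pt B hy₁ x hxU
  have hne : ev v (B.π.left ⁻¹ᵁ U₀) y₁ ≠ 0 := hv1 ▸ one_ne_zero
  have hv0 := D.vec_ne_zero x v hv hy₁ hxU hne
  have hst : GLin.IsStableVec k A (D.vec v) :=
    (Groth.L14.HM.Gen.isStableVec_iff_mu hLR D.isLinear _ hv0).2 fun lam hnt m hm => by
      haveI := isMonHom_onePS e lam
      obtain ⟨m', hm', hu⟩ := D.exists_isMu_vec x v hv hy₁ hxU hne lam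
      rw [hu m hm]
      exact mul_pos (Int.natCast_pos.2 D.hN) (h (onePS e lam) (fun h1 => hnt (isTrivial_of_onePS_eq_one e lam h1)) m' hm')
  obtain ⟨d, p, hp, hd, ⟨-, hi⟩, hFne, hmem, haff⟩ := D.isSemistablePt x v hv
    (Groth.L14.HM.Gen.isSemistableVec_of_isStableVec hLR D.isLinear _ hv0 hst)
  have hF := D.hasWeight_sect hp
  let U := nv B.atlas hF
  have hfin := D.finite_stabPts x v hv hy₁ hxU hv1 hst.2 hd hF hi hFne
  obtain ⟨hclo, horbU⟩ := D.isClosed_orbit hLR x v hv hst hd hF hi hFne haff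
  obtain ⟨S₀, hpts, hlqf, hS₀inv, hΩ⟩ := exists_finLocus_pts a
  have horbS : ∀ h, (orb a x).left.base h ∈ S₀ := fun h => by
    have e1 : (orb a x).left ⁻¹ᵁ S₀ = ⊤ := opens_ext fun g => by
      show Mem (g ≫ orb a x) S₀ ↔ Mem g ⊤
      rw [hpts, comp_orb]
      exact iff_of_true (stabPts_act a _ hfin) trivial
    exact e1.ge (Opens.mem_top h)
  have hUinv := preimage_nv hF hi
  obtain ⟨aU, haU⟩ := restrict_action U hUinv
  let XU : Over (Bs k) := Over.mk (U.ι ≫ X.hom)
  let j : XU ⟶ X := Over.homMk U.ι rfl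
  haveI : IsAffine XU.left := haff
  have hsq : ∀ q : (G ⊗ XU).left, U.ι.base (aU.act.left.base q) = a.act.left.base ((G ◁ j).left.base q) ∧
      U.ι.base ((snd G XU).left.base q) = (snd G X).left.base ((G ◁ j).left.base q) := fun q =>
    ⟨congrArg (fun z : G ⊗ XU ⟶ X => z.left.base q) haU,
      congrArg (fun z : G ⊗ XU ⟶ X => z.left.base q) (whiskerLeft_snd G j).symm⟩
  obtain ⟨f, hfinv, hW₁, hW₂⟩ := Groth.L14.GITAff.exists_invariant_separating G XU hG aU
    {z : XU.left | U.ι.base z ∉ S₀} (U.ι.base ⁻¹' Set.range (orb a x).left.base)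
    (S₀.isOpen.isClosed_compl.preimage U.ι.continuous) hclo
    (by
      rintro _ ⟨q, hq, rfl⟩
      show U.ι.base _ ∉ S₀
      rw [(hsq q).1]
      intro hc
      have : (G ◁ j).left.base q ∈ a.act.left ⁻¹ᵁ S₀ := hc
      rw [hS₀inv] at this
      exact hq (show U.ι.base _ ∈ S₀ from (hsq q).2 ▸ this))
    (by
      rintro _ ⟨q, hq, rfl⟩
      show U.ι.base _ ∈ Set.range (orb a x).left.base
      rw [(hsq q).1]
      exact act_mem_range_orb x _ ((hsq q).2 ▸ (show U.ι.base _ ∈ Set.range (orb a x).left.base from hq)))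
    (Set.disjoint_left.2 fun z hz ⟨h, hh⟩ => hz (hh ▸ horbS h))
  set hh := U.topIso.hom f with hhdef
  have hInv : InvOn a U hh := invOn_of_restrict U aU haU hUinv f hfinv
  have hbo : ∀ z : U.toScheme, U.ι.base z ∈ X.left.basicOpen hh ↔ z ∈ U.toScheme.basicOpen f := fun z => by
    rw [← Scheme.Opens.ι_image_basicOpen_topIso_inv U hh, hhdef, Iso.hom_inv_id_apply]
    exact ⟨fun ⟨z', hz', e'⟩ => U.ι.isOpenEmbedding.injective e' ▸ hz', fun hz => ⟨z, hz, rfl⟩⟩
  have hsub : X.left.basicOpen hh ≤ S₀ := fun z hz => by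
    have hzU : z ∈ U := X.left.basicOpen_le _ hz
    by_contra hzS
    exact (Scheme.mem_zeroLocus_iff _ _ _).1 (hW₁ (show (⟨z, hzU⟩ : U.toScheme) ∈ _ from hzS)) f (Set.mem_singleton f)
      ((hbo ⟨z, hzU⟩).1 hz)
  have hxo : x.left.base star ∈ Set.range (orb a x).left.base := by
    refine ⟨(1 : Pt G).left.base star, ?_⟩
    show ((1 : Pt G) ≫ orb a x).left.base star = _
    rw [comp_orb, inv_one, Groth.L18.MuConj.act_one]
  have hxb : x.left.base star ∈ X.left.basicOpen hh := by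
    by_contra hx'
    have hxU' : x.left.base star ∈ U := hmem
    have h1 : (⟨_, hxU'⟩ : U.toScheme) ∉ U.toScheme.basicOpen (1 - f) := (Scheme.mem_zeroLocus_iff _ _ _).1 (hW₂ (show (⟨_, hxU'⟩ : U.toScheme) ∈ _ from hxo)) (1 - f)
      (Set.mem_singleton _)
    have h2 : (⟨_, hxU'⟩ : U.toScheme) ∉ U.toScheme.basicOpen f := fun hc => hx' ((hbo _).2 hc)
    rw [Scheme.mem_basicOpen _ _ _ (show (⟨_, hxU'⟩ : U.toScheme) ∈ (⊤ : U.toScheme.Opens) from trivial)] at h1 h2
    rw [map_sub, map_one] at h1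
    generalize hc : (U.toScheme.presheaf.germ ⊤ (⟨_, hxU'⟩ : U.toScheme) trivial) f = c at h1 h2
    exact h1 ((IsLocalRing.isUnit_or_isUnit_of_isUnit_add
      (show IsUnit (c + (1 - c)) by rw [add_sub_cancel]; exact isUnit_one)).resolve_left h2)
  haveI := B.atlas.affine
  haveI := compactSpace_V B
  haveI : CompactSpace X.left := QuasiCompact.compactSpace_of_compactSpace X.hom
  haveI : QuasiSeparatedSpace X.left := quasiSeparatedSpace_of_quasiSeparated X.hom
  haveI : CompactSpace (G ⊗ B.V).left := by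
    haveI : QuasiCompact (snd G B.V).left :=
      MorphismProperty.of_isPullback (P := @QuasiCompact)
        (IsPullback.of_hasPullback G.hom B.V.hom : IsPullback (fst G B.V).left (snd G B.V).left G.hom B.V.hom)
        inferInstance
    exact QuasiCompact.compactSpace_of_compactSpace (snd G B.V).left
  obtain ⟨M, F₁, ⟨hw₁, hi₁⟩, hres⟩ := exists_inv_extend hF hi hh hInv
  have hw := hasWeight_mul B.atlas hw₁ hF
  have hnv : GLinSh.nonvanishing B.π (F₁ * D.sect p) = (X.left.basicOpen hh : Set X.left) := by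
    rw [nonvanishing_mul B.atlas hw₁ hF, ← nonvanishing_inter_eq B.atlas hF le_rfl hres]
    rfl
  have heq : nv B.atlas hw = X.left.basicOpen hh := Opens.ext hnv
  have hi' := isInvFn_mul hi₁ hi
  refine ⟨⟨_, F₁ * D.sect p, ?_, ⟨hw, hi'⟩, hnv.ge hxb, nv B.atlas hw, coe_nv _ _, heq ▸ haff.basicOpen hh,
    closedOrbitsOn_of_le _ S₀ (heq.trans_le hsub) (heq ▸ haff.basicOpen hh) (preimage_nv hw hi') hlqf⟩,
    (hΩ _).1 (hsub hxb)⟩
  have := Nat.mul_pos D.hN hd
  omega

end Groth.L14.HMProj
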