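import Groth.Agent.L18.GIT.MuPoints
import Groth.Agent.L14.GITLin.Inv
import Mathlib.AlgebraicGeometry.Morphisms.Flat
import Mathlib.AlgebraicGeometry.AlgClosed.Basic

/-!
# Translations of functions on the total space of a linearised line bundle
-/

set_option autoImplicit false
set_option linter.style.haveILetI false
set_option backward.isDefEq.respectTransparency false
set_option backward.isDefEq.respectTransparency.types false

noncomputable section

universe u

open CategoryTheory CategoryTheory.Limits MonoidalCategory CartesianMonoidalCategory MonObj AlgebraicGeometry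

namespace Groth.L14.HMProj

open Groth.L18.KEval Groth.L18.MuConj

variable {k : Type u} [Field k]

/-- The scalars on functions. -/
@[reducible] def constAlg (Y : Over (Bs k)) : Algebra k Γ(Y.left, ⊤) := (const Y).toAlgebra

attribute [local instance] constAlg

theorem smul_eq (Y : Over (Bs k)) (c : k) (f : Γ(Y.left, ⊤)) : c • f = const Y c * f := rfl

theorem appTop_smul {Y Z : Over (Bs k)} (q : Y ⟶ Z) (c : k) (f : Γ(Z.left, ⊤)) :
    q.left.appTop (c • f) = c • q.left.appTop f := by
  rw [smul_eq, smul_eq, map_mul, appTop_const]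

theorem evT_smul {Y : Over (Bs k)} (v : Pt Y) (c : k) (f : Γ(Y.left, ⊤)) : evT v (c • f) = c * evT v f := by
  rw [smul_eq, map_mul, evT_const]

theorem appTop_congr_hom {Y Z : Over (Bs k)} {p q : Y ⟶ Z} (h : p = q) (f : Γ(Z.left, ⊤)) :
    p.left.appTop f = q.left.appTop f := by rw [h]

theorem appTop_comp_apply {Y Z W : Over (Bs k)} (p : Y ⟶ Z) (q : Z ⟶ W) (f : Γ(W.left, ⊤)) :
    p.left.appTop (q.left.appTop f) = (p ≫ q).left.appTop f := by
  rw [Over.comp_left, Scheme.Hom.comp_appTop]; rfl

/-- On a reduced scheme of finite type over an algebraically closed field, functions are determined by their values. -/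
theorem eq_zero_of_evT [IsAlgClosed k] {Y : Over (Bs k)} [LocallyOfFiniteType Y.hom] [IsReduced Y.left]
    (f : Γ(Y.left, ⊤)) (h : ∀ v : Pt Y, evT v f = 0) : f = 0 := by
  rw [← basicOpen_eq_bot_iff]
  by_contra hne
  obtain ⟨y, hy⟩ : (Y.left.basicOpen f : Set Y.left).Nonempty := by
    by_contra hn
    exact hne (SetLike.coe_injective (Set.not_nonempty_iff_eq_empty.1 hn))
  haveI : JacobsonSpace Y.left := LocallyOfFiniteType.jacobsonSpace Y.hom
  obtain ⟨z, hz, hzc⟩ := nonempty_inter_closedPoints (Z := (Y.left.basicOpen f : Set Y.left)) ⟨y, hy⟩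
    (Y.left.basicOpen f).isOpen.isLocallyClosed
  let v : Pt Y := Over.homMk (pointOfClosedPoint Y.hom z hzc) (pointOfClosedPoint_comp Y.hom z hzc)
  have hm : Mem v (Y.left.basicOpen f) := by
    show (pointOfClosedPoint Y.hom z hzc).base star ∈ Y.left.basicOpen f
    rw [pointOfClosedPoint_apply]; exact hz
  exact (ev_ne_zero_iff (mem_top v) f).2 hm ((ev_eq (mem_top v) f).trans (h v))

variable {G X : Over (Bs k)} [GrpObj G] {a : AlgGrp.Action G X} (B : GLinSh.LinBun G a)

/-- The section `v ↦ (g, v)`. -/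
abbrev sec (g : Pt G) (V : Over (Bs k)) : V ⟶ G ⊗ V := lift (toUnit V ≫ g) (𝟙 V)

/-- The pullback of a function by a translation. -/
def trF (g : Pt G) : Γ(B.V.left, ⊤) →+* Γ(B.V.left, ⊤) := (transl B.lift g).left.appTop.hom

theorem trF_eq (g : Pt G) (f : Γ(B.V.left, ⊤)) :
    trF B g f = (sec g B.V).left.appTop (B.lift.act.left.appTop f) := (appTop_comp_apply _ _ f).symm

theorem trF_smul (g : Pt G) (c : k) (f : Γ(B.V.left, ⊤)) : trF B g (c • f) = c • trF B g f :=
  appTop_smul _ c f

theorem trF_const (g : Pt G) (c : k) : trF B g (const B.V c) = const B.V c := appTop_const _ c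

theorem trF_mul (g h : Pt G) (f : Γ(B.V.left, ⊤)) : trF B (g * h) f = trF B h (trF B g f) := by
  refine Eq.trans ?_ (appTop_comp_apply (transl B.lift h) (transl B.lift g) f).symm
  refine appTop_congr_hom ?_ f
  rw [comp_transl, transl, transl, ← act_mul, MonObj.comp_mul]

theorem trF_one (f : Γ(B.V.left, ⊤)) : trF B 1 f = f := by
  refine Eq.trans (appTop_congr_hom (q := 𝟙 B.V) ?_ f) ?_
  · rw [transl, MonObj.comp_one, act_one]
  · show Scheme.Hom.appTop (𝟙 B.V.left) f = f
    rw [Scheme.Hom.id_appTop]; rfl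

theorem evT_trF (g : Pt G) (v : Pt B.V) (f : Γ(B.V.left, ⊤)) :
    evT v (trF B g f) = evT (lift g v ≫ B.lift.act) f := by
  show evT v ((transl B.lift g).left.appTop f) = _
  rw [evT_comp, comp_transl, toUnit_unique (toUnit (𝟙_ (Over (Bs k)))) (𝟙 _), Category.id_comp]

theorem transl_π (g : Pt G) : transl B.lift g ≫ B.π = B.π ≫ transl a g := by
  rw [comp_transl, transl, lift_act_π, Category.id_comp]

/-- Translations preserve the weight. -/
theorem hasWeight_trF {n : ℕ} {f : Γ(B.V.left, ⊤)} (hf : GLinSh.HasWeight B.atlas.chart n f) (g : Pt G) :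
    GLinSh.HasWeight B.atlas.chart n (trF B g f) := by
  refine Groth.L14.GITLin.hasWeight_of_local B.atlas fun x => ?_
  obtain ⟨U, hxU, y, hy⟩ := B.atlas.cover x
  obtain ⟨U', hxU', y', hy'⟩ := B.atlas.cover ((transl a g).left.base x)
  obtain ⟨c, hc⟩ := B.lift_linear U U' y y' hy hy'
  obtain ⟨cf, hcf⟩ := hf U' y' hy'
  let W : X.left.Opens := U ⊓ (transl a g).left ⁻¹ᵁ U'
  have hWU : W ≤ U := inf_le_left
  have hWU' : W ≤ (transl a g).left ⁻¹ᵁ U' := inf_le_right
  have hWq : W ≤ (sec g X).left ⁻¹ᵁ (a.act.left ⁻¹ᵁ U' ⊓ (snd G X).left ⁻¹ᵁ U) := by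
    rw [Scheme.Hom.preimage_inf]
    refine le_inf hWU' ?_
    rw [← Scheme.Hom.comp_preimage, ← Over.comp_left, lift_snd]
    exact hWU
  have hqq : sec g B.V ≫ (G ◁ B.π) = B.π ≫ sec g X := by
    rw [sec, sec, lift_whiskerLeft, Category.id_comp, comp_lift, Category.comp_id, ← Category.assoc,
      toUnit_unique (B.π ≫ toUnit X) (toUnit _)]
  have hL : B.π.left ⁻¹ᵁ W ≤ (sec g B.V).left ⁻¹ᵁ GLinSh.liftOpen a B.π U U' := by
    refine (B.π.left.preimage_mono hWq).trans_eq ?_
    rw [← Scheme.Hom.comp_preimage, ← Over.comp_left, ← hqq, Over.comp_left, Scheme.Hom.comp_preimage]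
    rfl
  have hT : B.π.left ⁻¹ᵁ W ≤ (transl B.lift g).left ⁻¹ᵁ (B.π.left ⁻¹ᵁ U') := by
    rw [← Scheme.Hom.comp_preimage, ← Over.comp_left, transl_π, Over.comp_left, Scheme.Hom.comp_preimage]
    exact B.π.left.preimage_mono hWU'
  refine ⟨U, W, y, hWU, (transl a g).left.appLE U' W hWU' cf * (sec g X).left.appLE _ W hWq c ^ n, hy,
    ⟨hxU, hxU'⟩, ?_⟩
  have e0 : GLinSh.resTop B.π W (trF B g f) =
      (transl B.lift g).left.appLE (B.π.left ⁻¹ᵁ U') (B.π.left ⁻¹ᵁ W) hT (GLinSh.resTop B.π U' f) := by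
    rw [GLinSh.resTop, GLinSh.resTop, Groth.L14.GITLin.appLE_res]
    rfl
  have e1 : (transl B.lift g).left.appLE (B.π.left ⁻¹ᵁ U') (B.π.left ⁻¹ᵁ W) hT (B.π.left.app U' cf) =
      B.π.left.app W ((transl a g).left.appLE U' W hWU' cf) := by
    show (B.π.left.app U' ≫ (transl B.lift g).left.appLE _ _ hT) cf =
      ((transl a g).left.appLE U' W hWU' ≫ B.π.left.app W) cf
    rw [Scheme.Hom.app_eq_appLE, Scheme.Hom.app_eq_appLE, Scheme.Hom.appLE_comp_appLE,
      Scheme.Hom.appLE_comp_appLE]
    exact appLE_congr_hom (congrArg CommaMorphism.left (transl_π B g)) _ _ cf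
  have e2 : (transl B.lift g).left.appLE (B.π.left ⁻¹ᵁ U') (B.π.left ⁻¹ᵁ W) hT y' =
      B.π.left.app W ((sec g X).left.appLE _ W hWq c) * GLinSh.res B.π hWU y := by
    have h1 := congrArg ((sec g B.V).left.appLE _ (B.π.left ⁻¹ᵁ W) hL) hc
    rw [map_mul, ← CommRingCat.comp_apply, ← CommRingCat.comp_apply, ← CommRingCat.comp_apply,
      Scheme.Hom.appLE_comp_appLE, Scheme.Hom.appLE_comp_appLE, Scheme.Hom.appLE_comp_appLE] at h1
    refine h1.trans ?_
    congr 1
    · rw [Scheme.Hom.app_eq_appLE, ← CommRingCat.comp_apply, Scheme.Hom.appLE_comp_appLE]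
      exact appLE_congr_hom (congrArg CommaMorphism.left hqq) _ _ c
    · refine (appLE_congr_hom (g := 𝟙 B.V.left) ?_ _ (B.π.left.preimage_mono hWU) y).trans ?_
      · exact congrArg CommaMorphism.left (show sec g B.V ≫ snd G B.V = 𝟙 B.V from lift_snd _ _)
      · simp [Scheme.Hom.appLE]
  rw [e0, hcf, map_mul, map_pow, e1, e2, map_mul, map_pow, _root_.mul_pow, _root_.mul_assoc]

theorem sum_map_get {α β : Type*} [AddCommMonoid β] (l : List α) (f : α → β) :
    (l.map f).sum = ∑ t : Fin l.length, f (l.get t) := by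
  rw [← List.sum_ofFn]
  conv_lhs => rw [← List.ofFn_get l, List.map_ofFn]
  rfl

/-- The value of a function at a rational point, as a function on the base. -/
theorem appTop_pt {Y : Over (Bs k)} (g : Pt Y) (c : Γ(Y.left, ⊤)) :
    g.left.appTop c = const (𝟙_ (Over (Bs k))) (evT g c) := by
  refine gs_injective ?_
  have h1 : gs (g.left.appTop c) = evT g c := by
    show _ = gs (g.left.appLE ⊤ (g.left ⁻¹ᵁ ⊤) le_rfl c)
    rw [Scheme.Hom.appLE_eq_app]
    rfl
  rw [h1]
  simp [const, gs]

theorem sec_fst {V : Over (Bs k)} (g : Pt G) (c : Γ(G.left, ⊤)) :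
    (sec g V).left.appTop ((fst G V).left.appTop c) = const V (evT g c) := by
  rw [appTop_comp_apply, sec, lift_fst, ← appTop_comp_apply, appTop_pt, appTop_const]

theorem sec_snd {V : Over (Bs k)} (g : Pt G) (b : Γ(V.left, ⊤)) :
    (sec g V).left.appTop ((snd G V).left.appTop b) = b := by
  rw [appTop_comp_apply, sec, lift_snd]
  show Scheme.Hom.appTop (𝟙 V.left) b = b
  rw [Scheme.Hom.id_appTop]; rfl

section Kunneth

variable [IsAffine G.left] (V : Over (Bs k)) [CompactSpace V.left] [QuasiSeparatedSpace V.left]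

/-- Functions on the product with an affine group are sums of products. -/
theorem exists_list (d : Γ((G ⊗ V).left, ⊤)) :
    ∃ l : List (Γ(G.left, ⊤) × Γ(V.left, ⊤)),
      d = (l.map fun t => (fst G V).left.appTop t.1 * (snd G V).left.appTop t.2).sum := by
  have sq : IsPullback (snd G V).left (fst G V).left V.hom G.hom := (IsPullback.of_hasPullback G.hom V.hom).flip
  haveI : Flat G.hom := inferInstance
  haveI : IsAffine (Bs k) := inferInstanceAs (IsAffine (Spec _))
  have hiso := isIso_pushoutSection_of_isQuasiSeparated_of_flat_right sq (US := ⊤) (UT := ⊤) (UX := ⊤)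
    (UY := ⊤) le_top le_top (by simp) (isAffineOpen_top _) (isAffineOpen_top _)
    isCompact_univ isQuasiSeparated_univ
  have hcl := CommRingCat.closure_range_union_range_eq_top_of_isPushout ((isIso_pushoutSection_iff ..).1 hiso)
  have hd : d ∈ Subring.closure
      (Set.range (snd G V).left.appTop ∪ Set.range (fst G V).left.appTop) := by
    simp only [Scheme.Hom.appTop, Scheme.Hom.app_eq_appLE]
    exact hcl.ge trivial
  rw [Subring.mem_closure_iff] at hd
  induction hd using AddSubgroup.closure_induction with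
  | mem x hx =>
    suffices h : ∃ p : Γ(G.left, ⊤) × Γ(V.left, ⊤), x = (fst G V).left.appTop p.1 * (snd G V).left.appTop p.2 by
      obtain ⟨p, hp⟩ := h
      exact ⟨[p], by simp [hp]⟩
    induction hx using Submonoid.closure_induction with
    | mem y hy =>
      rcases hy with ⟨b, rfl⟩ | ⟨c, rfl⟩
      · exact ⟨(1, b), by rw [map_one, _root_.one_mul]⟩
      · exact ⟨(c, 1), by rw [map_one, _root_.mul_one]⟩
    | one => exact ⟨(1, 1), by rw [map_one, map_one, _root_.one_mul]⟩
    | mul y z _ _ hy hz =>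
      obtain ⟨p, rfl⟩ := hy
      obtain ⟨q, rfl⟩ := hz
      exact ⟨(p.1 * q.1, p.2 * q.2), by simp only [map_mul]; ring⟩
  | zero => exact ⟨[], rfl⟩
  | add x y _ _ hx hy =>
    obtain ⟨l, rfl⟩ := hx
    obtain ⟨l', rfl⟩ := hy
    exact ⟨l ++ l', by simp⟩
  | neg x _ hx =>
    obtain ⟨l, rfl⟩ := hx
    refine ⟨l.map fun t => (-t.1, t.2), ?_⟩
    rw [List.map_map, List.sum_neg, List.map_map]
    congr 2
    funext t
    simp only [Function.comp_apply]
    rw [map_neg, neg_mul]

/-- The values at the points of the group determine a function on the product. -/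
theorem eq_zero_of_sec [IsAlgClosed k] [LocallyOfFiniteType G.hom] [IsReduced G.left]
    (d : Γ((G ⊗ V).left, ⊤)) (h : ∀ g : Pt G, (sec g V).left.appTop d = 0) : d = 0 := by
  classical
  obtain ⟨l, hl⟩ := exists_list V d
  let I := Fin l.length
  have hd : d = ∑ t : I, (fst G V).left.appTop (l.get t).1 * (snd G V).left.appTop (l.get t).2 := by
    rw [hl, sum_map_get]
  let E : Submodule k Γ(V.left, ⊤) := Submodule.span k (Set.range fun t : I => (l.get t).2)
  haveI : Module.Finite k E := Module.Finite.span_of_finite k (Set.finite_range _)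
  let bas := Module.finBasis k E
  let co : I → Fin (Module.finrank k E) → k := fun t s =>
    bas.repr ⟨(l.get t).2, Submodule.subset_span ⟨t, rfl⟩⟩ s
  have hb : ∀ t, (l.get t).2 = ∑ s, co t s • (bas s : Γ(V.left, ⊤)) := fun t => by
    refine (congrArg Subtype.val (bas.sum_repr ⟨(l.get t).2, Submodule.subset_span ⟨t, rfl⟩⟩)).symm.trans ?_
    simp only [Submodule.coe_sum, Submodule.coe_smul]
    rfl
  let A : Fin (Module.finrank k E) → Γ(G.left, ⊤) := fun s => ∑ t, co t s • (l.get t).1
  have hd' : d = ∑ s, (fst G V).left.appTop (A s) * (snd G V).left.appTop (bas s : Γ(V.left, ⊤)) := by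
    rw [hd]
    simp only [hb, A, map_sum, Finset.mul_sum, Finset.sum_mul, appTop_smul, smul_mul_assoc, mul_smul_comm]
    exact Finset.sum_comm
  have hA : ∀ s, A s = 0 := fun s => eq_zero_of_evT _ fun g => by
    have h0 := h g
    rw [hd'] at h0
    simp only [map_sum, map_mul, sec_fst, sec_snd, ← smul_eq] at h0
    have hli : LinearIndependent k fun s => (bas s : Γ(V.left, ⊤)) :=
      bas.linearIndependent.map' E.subtype (Submodule.ker_subtype E)
    exact Fintype.linearIndependent_iff.1 hli (fun s => evT g (A s)) h0 s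
  rw [hd']
  refine Finset.sum_eq_zero fun s _ => ?_
  rw [hA, map_zero, zero_mul]

end Kunneth

variable [IsAffine G.left] [CompactSpace B.V.left] [QuasiSeparatedSpace B.V.left]

/-- A function is invariant when all translations fix it. -/
theorem isInvFn_of_trF [IsAlgClosed k] [LocallyOfFiniteType G.hom] [IsReduced G.left] {f : Γ(B.V.left, ⊤)}
    (h : ∀ g : Pt G, trF B g f = f) : GLinSh.IsInvFn B.lift f := by
  rw [GLinSh.IsInvFn, ← sub_eq_zero]
  refine eq_zero_of_sec B.V _ fun g => ?_
  rw [map_sub, ← trF_eq, h, sub_eq_zero, appTop_comp_apply, sec, lift_snd]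
  show f = Scheme.Hom.appTop (𝟙 B.V.left) f
  rw [Scheme.Hom.id_appTop]; rfl

/-- The translates of a function are combinations of finitely many functions with regular coefficients. -/
theorem exists_translates (f : Γ(B.V.left, ⊤)) :
    ∃ (n : ℕ) (α : Fin n → Γ(G.left, ⊤)) (β : Fin n → Γ(B.V.left, ⊤)),
      ∀ g : Pt G, trF B g f = ∑ t, evT g (α t) • β t := by
  obtain ⟨l, hl⟩ := exists_list B.V (B.lift.act.left.appTop f)
  refine ⟨l.length, fun t => (l.get t).1, fun t => (l.get t).2, fun g => ?_⟩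
  have hd : B.lift.act.left.appTop f =
      ∑ t, (fst G B.V).left.appTop (l.get t).1 * (snd G B.V).left.appTop (l.get t).2 := by
    rw [hl, sum_map_get]
  rw [trF_eq, hd, map_sum]
  refine Finset.sum_congr rfl fun t _ => ?_
  rw [map_mul, sec_fst, sec_snd, smul_eq]

end Groth.L14.HMProj
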