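import Groth.Agent.L14.HMProj.Rep
import Groth.Agent.L18.GIT.MuTorus
import Groth.Agent.L14.HM.Gen.Main
import Groth.Agent.L14.GITLin.Graded

/-!
# The vector of a point, its invariants, and its numerical function
-/

set_option autoImplicit false
set_option linter.style.haveILetI false
set_option backward.isDefEq.respectTransparency false
set_option backward.isDefEq.respectTransparency.types false

noncomputable section

universe u

open CategoryTheory CategoryTheory.Limits MonoidalCategory CartesianMonoidalCategory MonObj AlgebraicGeometry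
open LaurentPolynomial
open scoped TensorProduct

namespace Groth.L14.HMProj

open Groth.L18.KEval Groth.L18.MuConj Groth.L18.TorusChars Groth.L18.MuPoints
open Groth.L14.GITLin (nv coe_nv hasWeight_mul hasWeight_add hasWeight_zero hasWeight_pow hasWeight_one
  nonvanishing_pow quo quo_spec eq_of_mul_eq nonvanishing_inter_eq)
open Groth.L25.Bridge (P)

variable {k : Type u} [Field k] [IsAlgClosed k] [CharZero k]

attribute [local instance] constAlg

variable {G X : Over (Bs k)} [GrpObj G] {a : AlgGrp.Action G X} {B : GLinSh.LinBun G a}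
  [IsProper X.hom] {A : Type u} [CommRing A] [HopfAlgebra k A] {e : Grp.mk G ≅ Grp.mk (P k A)}
  (D : Rep B e)

/-- The coaction on polynomials in the sections. -/
def Rep.coactA : MvPolynomial (Fin D.r) k →ₐ[k] MvPolynomial (Fin D.r) k ⊗[k] A :=
  MvPolynomial.aeval fun i => ∑ l, MvPolynomial.X l ⊗ₜ[k] D.M i l

theorem Rep.coactA_coassoc :
    (Algebra.TensorProduct.assoc k k k (MvPolynomial (Fin D.r) k) A A).toAlgHom.comp
        ((Algebra.TensorProduct.map D.coactA (AlgHom.id k A)).comp D.coactA) =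
      (Algebra.TensorProduct.map (AlgHom.id k _) (Bialgebra.comulAlgHom k A)).comp D.coactA := by
  refine MvPolynomial.algHom_ext fun i => ?_
  simp only [AlgHom.comp_apply, Rep.coactA, MvPolynomial.aeval_X, map_sum, Algebra.TensorProduct.map_tmul,
    AlgHom.id_apply, TensorProduct.sum_tmul, TensorProduct.tmul_sum, Bialgebra.comulAlgHom_apply, D.hcomul]
  exact Finset.sum_comm

theorem Rep.coactA_counit :
    (Algebra.TensorProduct.rid k k (MvPolynomial (Fin D.r) k)).toAlgHom.comp
        ((Algebra.TensorProduct.map (AlgHom.id k _) (Bialgebra.counitAlgHom k A)).comp D.coactA) =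
      AlgHom.id k _ := by
  refine MvPolynomial.algHom_ext fun i => ?_
  simp [Rep.coactA, D.hcounit, TensorProduct.tmul_ite, ite_smul]

/-- The comodule of polynomials in the sections. -/
@[reducible] def Rep.comod : HopfRep.Comod k A (MvPolynomial (Fin D.r) k) where
  coact := D.coactA.toLinearMap
  coassoc := by
    refine LinearMap.ext fun p => ?_
    exact congrArg (fun φ => φ p) D.coactA_coassoc
  counit_comp := by
    refine LinearMap.ext fun p => ?_
    have h' : (Algebra.TensorProduct.rid k k (MvPolynomial (Fin D.r) k))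
        (LinearMap.lTensor (MvPolynomial (Fin D.r) k) (CoalgebraStruct.counit (R := k) (A := A))
          (D.coactA p)) = p := congrArg (fun φ => φ p) D.coactA_counit
    apply (Algebra.TensorProduct.rid k k (MvPolynomial (Fin D.r) k)).injective
    simpa using h'

theorem Rep.isCoactAlg : letI := D.comod; GLin.IsCoactAlg k A (MvPolynomial (Fin D.r) k) :=
  letI := D.comod
  ⟨map_one D.coactA, map_mul D.coactA⟩

theorem Rep.isLinear : letI := D.comod; haveI := D.isCoactAlg; GLin.IsLinear k A (Fin D.r) := fun i =>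
  ⟨fun j => D.M i j, MvPolynomial.aeval_X _ i⟩

/-- The vector of a point of the total space. -/
def Rep.vec (v : Pt B.V) : Fin D.r → k := fun i => evT v (D.w i)

theorem Rep.apt_orbit (v : Pt B.V) (g : Pt G) (i : Fin D.r) :
    letI := D.comod; haveI := D.isCoactAlg
    apt e g (GLin.orbitHom k A (GLin.vecPt k (Fin D.r) (D.vec v)) (MvPolynomial.X i)) =
      evT v (trF B g⁻¹ (D.w i)) := by
  letI := D.comod
  haveI := D.isCoactAlg
  rw [D.htr, map_sum, GLin.orbitHom]
  show apt e g ((Algebra.TensorProduct.lid k A).toAlgHom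
    (Algebra.TensorProduct.map (GLin.vecPt k (Fin D.r) (D.vec v)) (AlgHom.id k A) (D.coactA (MvPolynomial.X i)))) = _
  rw [Rep.coactA, MvPolynomial.aeval_X, map_sum, map_sum, map_sum]
  refine Finset.sum_congr rfl fun l _ => ?_
  rw [Algebra.TensorProduct.map_tmul, MvPolynomial.aeval_X, AlgHom.id_apply, evT_smul]
  show apt e g (D.vec v l • D.M i l) = _
  rw [map_smul, smul_eq_mul, _root_.mul_comm]
  rfl

/-- Evaluation as a map of algebras. -/
def evAlg (v : Pt B.V) : Γ(B.V.left, ⊤) →ₐ[k] k where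
  toRingHom := evT v
  commutes' c := evT_const v c

/-- The function of a polynomial in the sections. -/
def Rep.sect : MvPolynomial (Fin D.r) k →ₐ[k] Γ(B.V.left, ⊤) := MvPolynomial.aeval D.w

theorem Rep.evT_sect (v : Pt B.V) (p : MvPolynomial (Fin D.r) k) :
    evT v (D.sect p) = MvPolynomial.aeval (D.vec v) p :=
  AlgHom.congr_fun (show (evAlg v).comp D.sect = MvPolynomial.aeval (D.vec v) from
    MvPolynomial.algHom_ext fun i => by
      rw [AlgHom.comp_apply, Rep.sect, MvPolynomial.aeval_X, MvPolynomial.aeval_X]; rfl) p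

theorem Rep.trF_sect {p : MvPolynomial (Fin D.r) k}
    (hp : letI := D.comod; haveI := D.isCoactAlg; p ∈ GLin.invariants k A (MvPolynomial (Fin D.r) k))
    (g : Pt G) : trF B g (D.sect p) = D.sect p := by
  let Φ : MvPolynomial (Fin D.r) k ⊗[k] A →ₐ[k] Γ(B.V.left, ⊤) :=
    Algebra.TensorProduct.lift D.sect ((Algebra.ofId k _).comp (apt e g⁻¹)) fun _ _ => .all _ _
  let T : Γ(B.V.left, ⊤) →ₐ[k] Γ(B.V.left, ⊤) :=
    { trF B g with commutes' := fun c => trF_const B g c }
  have key : T.comp D.sect = Φ.comp D.coactA := MvPolynomial.algHom_ext fun i => by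
    rw [AlgHom.comp_apply, AlgHom.comp_apply, Rep.sect, MvPolynomial.aeval_X, Rep.coactA, MvPolynomial.aeval_X,
      map_sum]
    show trF B g (D.w i) = _
    conv_lhs => rw [← _root_.inv_inv g]
    rw [D.htr]
    refine Finset.sum_congr rfl fun l _ => ?_
    rw [Algebra.TensorProduct.lift_tmul, Rep.sect, MvPolynomial.aeval_X, _root_.mul_comm, smul_eq]
    rfl
  refine (AlgHom.congr_fun key p).trans ?_
  rw [AlgHom.comp_apply, show D.coactA p = p ⊗ₜ[k] (1 : A) from hp, Algebra.TensorProduct.lift_tmul, map_one,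
    _root_.mul_one]

theorem Rep.isInvFn_sect [IsAffine G.left] [LocallyOfFiniteType G.hom] [AlgebraicGeometry.IsReduced G.left]
    {p : MvPolynomial (Fin D.r) k}
    (hp : letI := D.comod; haveI := D.isCoactAlg; p ∈ GLin.invariants k A (MvPolynomial (Fin D.r) k)) :
    GLinSh.IsInvFn B.lift (D.sect p) := by
  haveI := compactSpace_V B
  haveI := quasiSeparatedSpace_V B
  exact isInvFn_of_trF B (D.trF_sect hp)

theorem Rep.hasWeight_monomial (α : Fin D.r →₀ ℕ) :
    GLinSh.HasWeight B.atlas.chart (D.N * α.degree) (∏ i ∈ α.support, D.w i ^ α i) := by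
  classical
  rw [Finsupp.degree_apply]
  generalize α.support = s
  induction s using Finset.induction_on with
  | empty => simpa using hasWeight_one B.atlas
  | insert i s hi ih =>
    rw [Finset.prod_insert hi, Finset.sum_insert hi, Nat.mul_add]
    exact hasWeight_mul B.atlas (hasWeight_pow B.atlas (D.hw i) (α i)) ih

theorem hasWeight_smul {n : ℕ} {f : Γ(B.V.left, ⊤)} (hf : GLinSh.HasWeight B.atlas.chart n f) (c : k) :
    GLinSh.HasWeight B.atlas.chart n (c • f) := by
  rw [smul_eq, ← appTop_const B.π c]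
  have := hasWeight_mul B.atlas (Groth.L14.GITLin.hasWeight_base B.atlas (const X c)) hf
  rwa [Nat.zero_add] at this

theorem Rep.sect_eq_sum (p : MvPolynomial (Fin D.r) k) :
    D.sect p = ∑ α ∈ p.support, p.coeff α • ∏ i ∈ α.support, D.w i ^ α i := by
  rw [Rep.sect, MvPolynomial.aeval_def, MvPolynomial.eval₂_eq]
  rfl

theorem Rep.hasWeight_sect {p : MvPolynomial (Fin D.r) k} {d : ℕ} (hp : p.IsHomogeneous d) :
    GLinSh.HasWeight B.atlas.chart (D.N * d) (D.sect p) := by
  classical
  rw [D.sect_eq_sum]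
  have hdeg : ∀ α ∈ p.support, α.degree = d := fun α hα => by
    have := hp (MvPolynomial.mem_support_iff.1 hα)
    rwa [Finsupp.degree_eq_weight_one]
  generalize hs : p.support = s at hdeg
  clear hs
  induction s using Finset.induction_on with
  | empty => simpa using hasWeight_zero B.atlas
  | insert α s hα ih =>
    rw [Finset.sum_insert hα]
    refine hasWeight_add B.atlas ?_ (ih fun β hβ => hdeg β (Finset.mem_insert_of_mem hβ))
    rw [← hdeg α (Finset.mem_insert_self α s)]
    exact hasWeight_smul (D.hasWeight_monomial α) _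

/-- The scalars on an open. -/
def rsk (U : X.left.Opens) (c : k) : Γ(X.left, U) := X.left.presheaf.map (homOfLE le_top).op (const X c)

omit [IsAlgClosed k] [CharZero k] [IsProper X.hom] in
theorem app_rsk (U : X.left.Opens) (c : k) :
    B.π.left.app U (rsk U c) = B.V.left.presheaf.map (homOfLE le_top).op (const B.V c) := by
  rw [rsk, ← appTop_const B.π c]
  exact Groth.L14.GITLin.app_res (π := B.π) le_top _

/-- The non-vanishing locus of a homogeneous polynomial in the sections is affine. -/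
theorem Rep.isAffineOpen_nv {p : MvPolynomial (Fin D.r) k} {d : ℕ} (hp : p.IsHomogeneous d) (hd : 0 < d) :
    IsAffineOpen (nv B.atlas (D.hasWeight_sect hp)) := by
  classical
  let hF := D.hasWeight_sect hp
  set U := nv B.atlas hF with hU
  have hpow : ∀ i, GLinSh.HasWeight B.atlas.chart (D.N * d * 1) (D.w i ^ d) := fun i => by
    rw [_root_.mul_one]; exact hasWeight_pow B.atlas (D.hw i) d
  let g : Fin D.r → Γ(X.left, U) := fun i => quo B.atlas hF (hpow i)
  have hg : ∀ i, GLinSh.resTop B.π U (D.w i ^ d) = B.π.left.app U (g i) * GLinSh.resTop B.π U (D.sect p) := fun i => by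
    have := quo_spec B.atlas hF (hpow i)
    rwa [pow_one] at this
  have hbasic : ∀ i, X.left.basicOpen (g i) = U ⊓ nv B.atlas (D.hw i) := fun i => by
    refine SetLike.coe_injective ?_
    rw [← nonvanishing_inter_eq B.atlas hF (m := 1) le_rfl (h := g i) (by rw [pow_one]; exact hg i),
      nonvanishing_pow hd, TopologicalSpace.Opens.coe_inf, coe_nv]
    exact Set.inter_comm _ _
  have haff : ∀ i, IsAffineOpen (X.left.basicOpen (g i)) := fun i => by
    have hFd : GLinSh.HasWeight B.atlas.chart (D.N * d) (D.sect p) := hF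
    let h := quo B.atlas (D.hw i) hFd
    have e1 := nonvanishing_inter_eq B.atlas (D.hw i) le_rfl (h := h) (quo_spec B.atlas (D.hw i) hFd)
    have e2 : X.left.basicOpen (g i) = X.left.basicOpen h := by
      rw [hbasic]
      refine SetLike.coe_injective ?_
      rw [← e1, TopologicalSpace.Opens.coe_inf]
      rfl
    rw [e2]
    exact (D.haff i).basicOpen h
  have hspan : Ideal.span (Set.range g) = ⊤ := by
    by_contra hne
    obtain ⟨m, hm, hle⟩ := Ideal.exists_le_maximal _ hne
    let r : (Fin D.r →₀ ℕ) → Γ(X.left, U) := fun α =>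
      if hα : α.degree = d then quo B.atlas hF (m := 1) (F := ∏ i ∈ α.support, D.w i ^ α i)
        (by rw [_root_.mul_one, ← hα]; exact D.hasWeight_monomial α) else 0
    have hdeg : ∀ α ∈ p.support, α.degree = d := fun α hα => by
      have := hp (MvPolynomial.mem_support_iff.1 hα)
      rwa [Finsupp.degree_eq_weight_one]
    have hr : ∀ α ∈ p.support, GLinSh.resTop B.π U (∏ i ∈ α.support, D.w i ^ α i) =
        B.π.left.app U (r α) * GLinSh.resTop B.π U (D.sect p) := fun α hα => by
      simp only [r, dif_pos (hdeg α hα)]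
      have := quo_spec B.atlas hF (m := 1) (F := ∏ i ∈ α.support, D.w i ^ α i)
        (by rw [_root_.mul_one, ← hdeg α hα]; exact D.hasWeight_monomial α)
      rwa [pow_one] at this
    have hmem : ∀ α ∈ p.support, r α ∈ m := fun α hα => by
      have hsum : ∑ i ∈ α.support, α i = d := by
        have := hdeg α hα
        rwa [Finsupp.degree_apply] at this
      have e : r α ^ d = ∏ i ∈ α.support, g i ^ α i := by
        refine eq_of_mul_eq B.atlas hF le_rfl d ?_
        have e2 : GLinSh.resTop B.π U (D.sect p) ^ d =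
            ∏ i ∈ α.support, GLinSh.resTop B.π U (D.sect p) ^ α i := by
          rw [Finset.prod_pow_eq_pow_sum, hsum]
        rw [map_pow, ← _root_.mul_pow, ← hr α hα, map_prod, e2, ← Finset.prod_mul_distrib, GLinSh.resTop,
          map_prod, ← Finset.prod_pow]
        refine Finset.prod_congr rfl fun i _ => ?_
        rw [map_pow, map_pow, ← _root_.mul_pow, ← pow_mul, _root_.mul_comm (α i) d, pow_mul, ← map_pow]
        exact congrArg (· ^ α i) (hg i)
      refine hm.isPrime.mem_of_pow_mem d (e ▸ ?_)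
      obtain ⟨i, hi⟩ : α.support.Nonempty := by
        rw [Finset.nonempty_iff_ne_empty]
        intro h0
        rw [h0, Finset.sum_empty] at hsum
        omega
      exact Ideal.prod_mem m hi (Ideal.pow_mem_of_mem m (hle (Ideal.subset_span ⟨i, rfl⟩)) _
        (Nat.pos_of_ne_zero (Finsupp.mem_support_iff.1 hi)))
    refine hm.ne_top ((Ideal.eq_top_iff_one m).2 ?_)
    have hone : ∑ α ∈ p.support, rsk U (p.coeff α) * r α = 1 := by
      refine eq_of_mul_eq B.atlas hF le_rfl 1 ?_
      rw [map_one, _root_.one_mul, pow_one, map_sum, Finset.sum_mul]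
      have hs := congrArg (GLinSh.resTop B.π U) (D.sect_eq_sum p)
      simp only [GLinSh.resTop, map_sum] at hs
      refine Eq.trans ?_ hs.symm
      refine Finset.sum_congr rfl fun α hα => ?_
      rw [map_mul, _root_.mul_assoc, ← hr α hα, app_rsk, smul_eq, map_mul]
    rw [← hone]
    exact Ideal.sum_mem _ fun α hα => m.mul_mem_left _ (hmem α hα)
  exact isAffineOpen_of_isAffineOpen_basicOpen _ (Set.range g) hspan (by
    rintro _ ⟨i, rfl⟩
    exact haff i)

/-- The group structure of the multiplicative group, found once. -/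
@[instance_reducible] def gmGrp : GrpObj (Red.Gm (Bs k)) := inferInstance

attribute [local instance] gmGrp

/-- The value of a character of the multiplicative group. -/
def chi (n : ℤ) : Pt (Red.Gm (Bs k)) →* k where
  toFun s := evT s (mon ℤ (Multiplicative.ofAdd n))
  map_one' := by
    rw [evT_mon, Groth.L11.Magnet.MPts.char_one, MonoidHom.one_apply, map_one]
  map_mul' s t := by
    rw [evT_mon, evT_mon, evT_mon, Groth.L11.Magnet.MPts.char_mul, MonoidHom.mul_apply, map_mul]

theorem chi_gpt (n : ℤ) (b : kˣ) : chi n (gpt b) = (b : k) ^ n := evT_mon_gpt b n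

theorem chi_injective : Function.Injective (chi (k := k)) := fun n n' h =>
  pw_injective (k := k) (MonoidHom.ext fun b => by rw [pw_apply, pw_apply, ← chi_gpt, ← chi_gpt, h])

theorem chi_gpt_id (n : ℤ) (b : kˣ) : chi n (gpt b ≫ 𝟙 (Red.Gm (Bs k))) = (b : k) ^ n := by
  refine (congrArg (chi n) (Category.comp_id (gpt b))).trans ?_
  exact chi_gpt n b

theorem pair_chi (n : ℤ) : pair (chi (k := k) n) (𝟙 (Red.Gm (Bs k))) = n :=
  pair_eq (T := Red.Gm (Bs k)) (χ := chi n) (l := 𝟙 (Red.Gm (Bs k))) (chi_gpt_id n)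

omit [IsProper X.hom] in
theorem onePS_gpt_inv (e : Grp.mk G ≅ Grp.mk (P k A)) (lam : A →ₐc[k] k[T;T⁻¹]) (b : kˣ) :
    (gpt b⁻¹ ≫ onePS e lam : Pt G)⁻¹ = gpt b ≫ onePS e lam := by
  haveI := isMonHom_onePS e lam
  refine inv_eq_of_mul_eq_one_right ?_
  rw [← MonObj.mul_comp, ← map_mul, inv_mul_cancel, map_one, MonObj.one_comp]

omit [IsProper X.hom] in
theorem isMu_congr {l l' : Red.Gm (Bs k) ⟶ G} [IsMonHom l] [IsMonHom l'] (h : l = l') {x : Pt X} {m : ℤ}
    (hm : HMNum.IsMu B l x m) : HMNum.IsMu B l' x m := by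
  subst h; exact hm

/-- The numerical function of a point and of its vector. -/
theorem Rep.isMu_vec (x : Pt X) (v : Pt B.V) (hv : v ≫ B.π = x) {U₀ : X.left.Opens}
    {y₁ : Γ(B.V.left, B.π.left ⁻¹ᵁ U₀)} (hy₁ : y₁ ∈ B.atlas.chart U₀) (hxU : Mem x U₀)
    (hne : ev v (B.π.left ⁻¹ᵁ U₀) y₁ ≠ 0) (lam : A →ₐc[k] k[T;T⁻¹]) (m : ℤ)
    (hm : haveI := isMonHom_onePS e lam; HMNum.IsMu B (onePS e lam) x m) :
    letI := D.comod; haveI := D.isCoactAlg
    GLin.IsMu k A lam (D.vec v) ((D.N : ℤ) * m) := by
  classical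
  letI := D.comod
  haveI := D.isCoactAlg
  haveI := isMonHom_onePS e lam
  let co := Groth.L14.HM.Gen.MuFun.co lam (D.vec v)
  let Φ : Fin D.r → Finset (Pt (Red.Gm (Bs k)) →* k) := fun i => (co i).coeff.support.image chi
  let c : Fin D.r → (Pt (Red.Gm (Bs k)) →* k) → k := fun i χ => (co i).coeff (Function.invFun chi χ)
  have hinv : ∀ n : ℤ, Function.invFun (chi (k := k)) (chi n) = n := Function.leftInverse_invFun chi_injective
  have hexp : ∀ (i : Fin D.r) (s : Pt (Red.Gm (Bs k))),
      evT (lift (s ≫ onePS e lam) v ≫ B.lift.act) (D.w i) = ∑ χ ∈ Φ i, c i χ * χ s := by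
    intro i s
    obtain ⟨b, rfl⟩ := exists_gpt s
    rw [Finset.sum_image (fun _ _ _ _ h => chi_injective h)]
    simp only [c, hinv, chi_gpt]
    rw [← evT_trF, ← onePS_gpt_inv e lam b, ← D.apt_orbit v, apt_onePS, _root_.inv_inv, AlgHom.comp_apply]
    show Groth.L14.HM.Gen.evT b (co i) = _
    rw [Groth.L14.HM.Gen.evT, AddMonoidAlgebra.lift_apply, Finsupp.sum]
    refine Finset.sum_congr rfl fun n _ => ?_
    show _ • ((b ^ n : kˣ) : k) = _
    rw [smul_eq_mul, Units.val_zpow_eq_zpow_val]
  obtain ⟨hle, j, χ, hχ, hcχ, hatt⟩ := Groth.L18.MuTorus.isMu_le_and_attained B (onePS e lam)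
    (fun _ : Fin D.r => D.N) D.w (fun _ => D.hN) D.hw D.hcov Φ
    (fun i χ hχ => by
      obtain ⟨n, -, rfl⟩ := Finset.mem_image.1 hχ
      exact ⟨mon ℤ (Multiplicative.ofAdd n), fun _ => rfl⟩)
    x v hv hy₁ hxU hne c hexp (𝟙 _) m (isMu_congr (Category.id_comp _).symm hm)
  rw [Groth.L14.HM.Gen.MuFun.isMu_iff]
  refine ⟨fun i n hn => ?_, j, ?_⟩
  · have := hle i (chi n) (Finset.mem_image_of_mem _ (Finsupp.mem_support_iff.2 hn)) (by simpa [c, hinv] using hn)
    rw [pair_chi] at this
    linarith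
  · obtain ⟨n, hn, rfl⟩ := Finset.mem_image.1 hχ
    rw [pair_chi] at hatt
    rw [show -((D.N : ℤ) * m) = n by rw [← hatt]; ring]
    exact Finsupp.mem_support_iff.1 hn

theorem Rep.vec_ne_zero (x : Pt X) (v : Pt B.V) (hv : v ≫ B.π = x) {U₀ : X.left.Opens}
    {y₁ : Γ(B.V.left, B.π.left ⁻¹ᵁ U₀)} (hy₁ : y₁ ∈ B.atlas.chart U₀) (hxU : Mem x U₀)
    (hne : ev v (B.π.left ⁻¹ᵁ U₀) y₁ ≠ 0) : D.vec v ≠ 0 := by
  intro h0
  obtain ⟨i, hi⟩ := D.hcov (x.left.base star)
  obtain ⟨c, hc, hc0⟩ := exists_weight_coeff B (D.hw i) hy₁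
  have h1 : evT v (D.w i) = 0 := congrFun h0 i
  rw [hc v x hv hxU] at h1
  exact mul_ne_zero (hc0 x hxU hi) (pow_ne_zero _ hne) h1

/-- A semistable vector gives a semistable point. -/
theorem Rep.isSemistablePt [IsAffine G.left] [LocallyOfFiniteType G.hom] [AlgebraicGeometry.IsReduced G.left]
    (x : Pt X) (v : Pt B.V) (hv : v ≫ B.π = x)
    (hss : letI := D.comod; haveI := D.isCoactAlg; GLin.IsSemistableVec k A (D.vec v)) :
    ∃ (d : ℕ) (p : MvPolynomial (Fin D.r) k) (hp : p.IsHomogeneous d), 0 < d ∧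
      B.IsInvSection (D.N * d) (D.sect p) ∧ evT v (D.sect p) ≠ 0 ∧
      x.left.base star ∈ GLinSh.nonvanishing B.π (D.sect p) ∧
      IsAffineOpen (nv B.atlas (D.hasWeight_sect hp)) := by
  letI := D.comod
  haveI := D.isCoactAlg
  rw [GLin.IsSemistableVec, GLin.IsNullform] at hss
  push Not at hss
  obtain ⟨p, hp, d, hd, hhom, hne⟩ := hss
  have h1 : evT v (D.sect p) ≠ 0 := by
    rw [D.evT_sect, MvPolynomial.aeval_eq_eval]
    exact hne
  refine ⟨d, p, hhom, hd, ⟨D.hasWeight_sect hhom, D.isInvFn_sect hp⟩, h1, ?_, D.isAffineOpen_nv hhom hd⟩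
  refine ⟨v.left.base star, (ev_ne_zero_iff (mem_top v) _).1 (by rwa [ev_eq]), ?_⟩
  rw [← hv]; rfl

end Groth.L14.HMProj
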